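import Groth.Agent.AlgSpFormal.Charts
import Groth.Agent.AlgSpc.SepLQF
import Groth.Agent.AlgSpc.LfpCancel
import Groth.Agent.AlgSpLoc.Diag
import Groth.Agent.AlgSpLoc.OpenImm
import Groth.Prelude.Def_AlgSp4

/-!
Unramified monomorphisms of algebraic spaces.
-/

set_option autoImplicit false
set_option backward.isDefEq.respectTransparency false

universe u

open CategoryTheory CategoryTheory.Limits AlgebraicGeometry Opposite

namespace Groth.Agent.AlgSpFormal

open _root_.AlgSp Groth.Agent.AlgSpc Groth.Agent.AlgSpLoc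

variable {S : Scheme.{u}} {X Y : Sp S} {f : X ⟶ Y}

theorem unramified_of_mono [Mono f] : IsFormallyUnramifiedMor f :=
  fun _ _ _ _ h₂ _ h₄ => (cancel_mono f).1 (h₂.trans h₄.symm)

theorem univInjective_of_mono [Mono f] : IsUnivInjectiveMor f := by
  intro Z Z' _ g fst snd sq x y h
  have : Mono snd := sq.mono_snd_of_mono
  obtain ⟨w, rfl, rfl⟩ := exists_point_of_isPullback (IsPullback.of_hasPullback snd snd) x y h
  rw [show pullback.fst snd snd = pullback.snd snd snd from (cancel_mono snd).1 pullback.condition]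

theorem locP_lft_fu_iff (hX : IsAlgSpace X) (hY : IsAlgSpace Y) :
    LocP (@LocallyOfFiniteType ⊓ @FormallyUnramified) f ↔
      LocP @LocallyOfFiniteType f ∧ IsFormallyUnramifiedMor f :=
  locP_inf.trans (and_congr Iff.rfl (unramified_iff_locP hX hY).symm)

/-- A universally injective unramified morphism is a monomorphism. -/
theorem mono_of_univInjective (hX : IsAlgSpace X) (hY : IsAlgSpace Y) (hft : LocP @LocallyOfFiniteType f)
    (hu : IsFormallyUnramifiedMor f) (hi : IsUnivInjectiveMor f) : Mono f := by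
  have sqP := IsPullback.of_hasPullback f f
  have hP := isAlgSpace_of_isPullback hX hY hX sqP
  have : Mono (pullback.diagonal f) := inferInstance
  have hFE : IsFormallyEtaleMor (pullback.diagonal f) := by
    intro sq
    let l₁ := sq.bot ≫ pullback.fst f f
    let l₂ := sq.bot ≫ pullback.snd f f
    have e₁ : (yon S).map sq.j ≫ l₁ = sq.top := by
      have := congrArg (· ≫ pullback.fst f f) sq.comm
      simpa [l₁] using this.symm
    have e₂ : (yon S).map sq.j ≫ l₂ = sq.top := by
      have := congrArg (· ≫ pullback.snd f f) sq.comm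
      simpa [l₂] using this.symm
    have hll : l₁ = l₂ := hu (withMaps sq f sq.top (l₁ ≫ f) (by rw [reassoc_of% e₁])) l₁ l₂ e₁ rfl e₂
      (by simp only [l₁, l₂, Category.assoc, pullback.condition])
    refine ⟨l₁, ⟨e₁, pullback.hom_ext ?_ ?_⟩, fun l hl => ?_⟩
    · simp [l₁]
    · rw [Category.assoc, pullback.diagonal_snd, Category.comp_id, hll]
    · rw [show l₁ = sq.bot ≫ pullback.fst f f from rfl, ← hl.2, Category.assoc, pullback.diagonal_fst,
        Category.comp_id]
  have hfp : LocP @LocallyOfFinitePresentation (pullback.diagonal f) :=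
    locP_of_comp (P := @LocallyOfFinitePresentation) (Q := @LocallyOfFiniteType) (g := pullback.fst f f)
      (fun h k (_ : LocallyOfFinitePresentation (h ≫ k)) (_ : LocallyOfFiniteType k) => lfp_of_comp h k)
      hX hP hX
      (by
        rw [pullback.diagonal_fst]
        exact locP_of_repWith EtLoc.precomp
          (repWith_mono (fun _ _ e (_ : IsIso e) => inferInstanceAs (LocallyOfFinitePresentation e))
            (repWith_iso (P := MorphismProperty.isomorphisms Scheme.{u}) (𝟙 X))))
      (locP_base_change hX hY hX sqP.flip hft)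
  have het : IsEtaleMor (pullback.diagonal f) :=
    (isEtaleMor_iff_locP hX hP).2 ((locP_etale_iff hX hP).2 ⟨hfp, hFE⟩)
  have hs : Function.Surjective (Points.map (pullback.diagonal f)) := fun z => by
    refine ⟨Points.map (pullback.snd f f) z, hi hX f _ _ sqP ?_⟩
    rw [← Points.map_comp, pullback.diagonal_snd, Points.map_id]
  have : IsIso (pullback.diagonal f) := isIso_of_mono_etale_surjective hX _ het hs
  rw [mono_iff_diagonal hX]
  exact repWith_iso (pullback.diagonal f)

theorem lqf_of_lft_fu {A B : Scheme.{u}} (e : A ⟶ B) [LocallyOfFiniteType e] [FormallyUnramified e] :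
    LocallyQuasiFinite e := by
  refine HasRingHomProperty.iff_appLE.2 fun U V h => ?_
  have h₁ := HasRingHomProperty.appLE (P := @LocallyOfFiniteType) e ‹_› U V h
  have h₂ := HasRingHomProperty.appLE (P := @FormallyUnramified) e ‹_› U V h
  algebraize [(e.appLE U.1 V.1 h).hom]
  change Algebra.QuasiFinite _ _
  infer_instance

theorem mono_lft_props (hX : IsAlgSpace X) (hY : IsAlgSpace Y) (hft : LocP @LocallyOfFiniteType f) [Mono f] :
    Representable f ∧ IsSeparatedMor f ∧ LocP (@LocallyQuasiFinite ⊓ @LocallyOfFiniteType) f := by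
  have hq : LocP (@LocallyQuasiFinite ⊓ @LocallyOfFiniteType) f :=
    locP_mono (fun _ _ g ⟨(_ : LocallyOfFiniteType g), (_ : FormallyUnramified g)⟩ => ⟨lqf_of_lft_fu g, ‹_›⟩)
      ((locP_lft_fu_iff hX hY).2 ⟨hft, unramified_of_mono⟩)
  have hsep : IsSeparatedMor f :=
    repWith_mono (fun _ _ g (_ : IsIso g) => inferInstanceAs (IsClosedImmersion g))
      ((mono_iff_diagonal hX f).1 inferInstance)
  exact ⟨SepLQF.representable_of_lqf_separated hX hY f hq hsep, hsep, hq⟩

theorem unramified_mono_tfae (hX : IsAlgSpace X) (hY : IsAlgSpace Y) :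
    ((LocP (@LocallyOfFiniteType ⊓ @FormallyUnramified) f ∧ Mono f) ↔
      (LocP (@LocallyOfFiniteType ⊓ @FormallyUnramified) f ∧ IsUnivInjectiveMor f)) ∧
    ((LocP (@LocallyOfFiniteType ⊓ @FormallyUnramified) f ∧ Mono f) ↔
      (LocP @LocallyOfFiniteType f ∧ Mono f)) ∧
    ((LocP (@LocallyOfFiniteType ⊓ @FormallyUnramified) f ∧ Mono f) ↔
      (IsUnivInjectiveMor f ∧ LocP @LocallyOfFiniteType f ∧ IsFormallyUnramifiedMor f)) := by
  rw [locP_lft_fu_iff hX hY]
  refine ⟨⟨fun h => ⟨h.1, haveI := h.2; univInjective_of_mono⟩,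
      fun h => ⟨h.1, mono_of_univInjective hX hY h.1.1 h.1.2 h.2⟩⟩,
    ⟨fun h => ⟨h.1.1, h.2⟩, fun h => ⟨⟨h.1, haveI := h.2; unramified_of_mono⟩, h.2⟩⟩,
    ⟨fun h => ⟨haveI := h.2; univInjective_of_mono, h.1.1, h.1.2⟩,
      fun h => ⟨⟨h.2.1, h.2.2⟩, mono_of_univInjective hX hY h.2.1 h.2.2 h.1⟩⟩⟩

/-- Representable morphisms with an etale local property have it representably. -/
theorem repWith_of_locP {P : MorphismProperty Scheme.{u}} [EtLoc P] [P.IsStableUnderBaseChange]
    (hX : IsAlgSpace X) (hY : IsAlgSpace Y) (hr : Representable f) (h : LocP P f) : RepWith P f := by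
  refine repWith_mk fun T g => ?_
  obtain ⟨V, fst, snd, sq⟩ := exists_sq hr g
  refine ⟨V, fst, snd, sq, locP_base_change hX hY (IsAlgSpace.yon_obj T) sq h (𝟙 _) (𝟙 _) snd ?_ ?_ (by simp)⟩ <;>
    exact repWith_iso (𝟙 _)

theorem closedImmersion_iff (hX : IsAlgSpace X) (hY : IsAlgSpace Y) :
    RepWith @IsClosedImmersion f ↔ (IsUnivClosedMor f ∧ LocP @LocallyOfFiniteType f ∧ Mono f) := by
  constructor
  · intro h
    refine ⟨(repWith_univClosed_iff h.1).1 (repWith_mono (fun _ _ k (_ : IsClosedImmersion k) =>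
        inferInstanceAs (UniversallyClosed k)) h), locP_of_repWith EtLoc.precomp
        (repWith_mono (fun _ _ k (_ : IsClosedImmersion k) => inferInstanceAs (LocallyOfFiniteType k)) h),
      mono_of_repWith (fun _ _ k (_ : IsClosedImmersion k) => inferInstance) h⟩
  · rintro ⟨hc, hft, hm⟩
    have hr := (mono_lft_props hX hY hft).1
    refine repWith_mk fun T g => ?_
    obtain ⟨V, fst, snd, sq⟩ := exists_sq hr g
    refine ⟨V, fst, snd, sq, ?_⟩
    have h1 : LocallyOfFiniteType snd.left := (repWith_of_locP hX hY hr hft).2 g fst snd sq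
    have h2 : UniversallyClosed snd.left := ((repWith_univClosed_iff hr).2 hc).2 g fst snd sq
    have : Mono ((yon S).map snd) := sq.mono_snd_of_mono
    have : Mono snd := (yon S).mono_of_mono_map this
    have h3 : Mono snd.left := inferInstance
    have : IsSeparated snd.left := inferInstance
    exact (IsClosedImmersion.iff_isProper_and_mono _).2 ⟨{ }, h3⟩

theorem closedImmersion_tfae (hX : IsAlgSpace X) (hY : IsAlgSpace Y) :
    (RepWith @IsClosedImmersion f ↔
      (IsUnivClosedMor f ∧ LocP (@LocallyOfFiniteType ⊓ @FormallyUnramified) f ∧ Mono f)) ∧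
    (RepWith @IsClosedImmersion f ↔
      (IsUnivClosedMor f ∧ LocP (@LocallyOfFiniteType ⊓ @FormallyUnramified) f ∧ IsUnivInjectiveMor f)) ∧
    (RepWith @IsClosedImmersion f ↔
      (IsUnivClosedMor f ∧ LocP @LocallyOfFiniteType f ∧ Mono f)) ∧
    (RepWith @IsClosedImmersion f ↔
      (IsUnivClosedMor f ∧ IsUnivInjectiveMor f ∧ LocP @LocallyOfFiniteType f ∧
        IsFormallyUnramifiedMor f)) := by
  obtain ⟨h1, h2, h3⟩ := unramified_mono_tfae (f := f) hX hY
  rw [closedImmersion_iff hX hY, ← h3, ← h2, ← h1]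
  exact ⟨Iff.rfl, Iff.rfl, Iff.rfl, Iff.rfl⟩

end Groth.Agent.AlgSpFormal
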