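import Groth.Agent.AlgSpLoc.Glue
import Groth.Agent.AlgSpc.EtLift
import Groth.Agent.AlgSpc.EtLocInst
import Groth.Agent.FlatMorLib.FormallyEtale
import Groth.Prelude.Def_AlgSpInf
import Mathlib.AlgebraicGeometry.Morphisms.FormallyUnramified

/-!
Infinitesimal lifting for morphisms of sheaves: composition, cancellation, representable morphisms,
descent along etale surjections of the source.
-/

set_option autoImplicit false
set_option backward.isDefEq.respectTransparency false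

universe u

open CategoryTheory CategoryTheory.Limits AlgebraicGeometry Opposite

namespace Groth.Agent.AlgSpFormal

open _root_.AlgSp Groth.Agent.AlgSpc Groth.Agent.AlgSpLoc

variable {S : Scheme.{u}} {F G H : Sp S}

/-- The same thickening, other maps. -/
abbrev withMaps {f : F ⟶ G} (sq : InfSq f) {F' G' : Sp S} (g : F' ⟶ G') (top : (yon S).obj sq.ptT ⟶ F')
    (bot : (yon S).obj sq.ptT' ⟶ G') (comm : top ≫ g = (yon S).map sq.j ≫ bot) : InfSq g where
  A := sq.A
  I := sq.I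
  sq_zero := sq.sq_zero
  str := sq.str
  top := top
  bot := bot
  comm := comm

/-- Base change of the thickening along a ring map. -/
noncomputable abbrev bc {f : F ⟶ G} (sq : InfSq f) {Q : Type u} [CommRing Q] (φ : sq.A →+* Q) : InfSq f where
  A := Q
  I := sq.I.map φ
  sq_zero := by rw [← Ideal.map_pow, sq.sq_zero, Ideal.map_bot]
  str := Spec.map (CommRingCat.ofHom φ) ≫ sq.str
  top := (yon S).map (Over.homMk (Spec.map (CommRingCat.ofHom (Ideal.quotientMap _ φ Ideal.le_comap_map)))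
    (by
      simp only [Over.mk_hom, ← Spec.map_comp_assoc, ← CommRingCat.ofHom_comp, Ideal.quotientMap_comp_mk]) :
    Over.mk (Spec.map (CommRingCat.ofHom (Ideal.Quotient.mk (sq.I.map φ))) ≫
      Spec.map (CommRingCat.ofHom φ) ≫ sq.str) ⟶ sq.ptT) ≫ sq.top
  bot := (yon S).map (Over.homMk (Spec.map (CommRingCat.ofHom φ)) rfl :
    Over.mk (Spec.map (CommRingCat.ofHom φ) ≫ sq.str) ⟶ sq.ptT') ≫ sq.bot
  comm := by
    rw [Category.assoc, sq.comm, ← Functor.map_comp_assoc, ← Functor.map_comp_assoc]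
    congr 2
    apply Over.OverMorphism.ext
    simp only [Over.comp_left, Over.homMk_left, ← Spec.map_comp, ← CommRingCat.ofHom_comp,
      Ideal.quotientMap_comp_mk]

/-- The projection of a base changed thickening. -/
noncomputable def bcT' {f : F ⟶ G} (sq : InfSq f) {Q : Type u} [CommRing Q] (φ : sq.A →+* Q) :
    (bc sq φ).ptT' ⟶ sq.ptT' :=
  Over.homMk (Spec.map (CommRingCat.ofHom φ)) rfl

/-- The projection of the closed subscheme of a base changed thickening. -/
noncomputable def bcT {f : F ⟶ G} (sq : InfSq f) {Q : Type u} [CommRing Q] (φ : sq.A →+* Q) :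
    (bc sq φ).ptT ⟶ sq.ptT :=
  Over.homMk (Spec.map (CommRingCat.ofHom (Ideal.quotientMap _ φ Ideal.le_comap_map)))
    (by simp only [Over.mk_hom, ← Spec.map_comp_assoc, ← CommRingCat.ofHom_comp, Ideal.quotientMap_comp_mk])

theorem j_bcT' {f : F ⟶ G} (sq : InfSq f) {Q : Type u} [CommRing Q] (φ : sq.A →+* Q) :
    (bc sq φ).j ≫ bcT' sq φ = bcT sq φ ≫ sq.j := by
  apply Over.OverMorphism.ext
  simp only [bcT', bcT, Over.comp_left, Over.homMk_left, ← Spec.map_comp, ← CommRingCat.ofHom_comp,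
    Ideal.quotientMap_comp_mk]

theorem restrict_top {f : F ⟶ G} (sq : InfSq f) {Q : Type u} [CommRing Q] (φ : sq.A →+* Q)
    {X : Sp S} (l : (yon S).obj sq.ptT' ⟶ X) :
    (yon S).map (bc sq φ).j ≫ (yon S).map (bcT' sq φ) ≫ l =
      (yon S).map (bcT sq φ) ≫ (yon S).map sq.j ≫ l := by
  rw [← Functor.map_comp_assoc, j_bcT', Functor.map_comp_assoc]

theorem unramified_of_etale {f : F ⟶ G} (h : IsFormallyEtaleMor f) : IsFormallyUnramifiedMor f :=
  fun sq l l' h₁ h₂ h₃ h₄ => (h sq).unique ⟨h₁, h₂⟩ ⟨h₃, h₄⟩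

theorem smooth_of_etale {f : F ⟶ G} (h : IsFormallyEtaleMor f) : IsFormallySmoothMor f :=
  fun sq => (h sq).exists

theorem unramified_comp {f : F ⟶ G} {g : G ⟶ H} (hf : IsFormallyUnramifiedMor f)
    (hg : IsFormallyUnramifiedMor g) : IsFormallyUnramifiedMor (f ≫ g) := by
  intro sq l l' h₁ h₂ h₃ h₄
  have e : l ≫ f = l' ≫ f :=
    hg (withMaps sq g (sq.top ≫ f) sq.bot (by rw [Category.assoc]; exact sq.comm)) (l ≫ f) (l' ≫ f)
      (by rw [reassoc_of% h₁]) ((Category.assoc _ _ _).trans h₂)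
      (by rw [reassoc_of% h₃]) ((Category.assoc _ _ _).trans h₄)
  exact hf (withMaps sq f sq.top (l ≫ f) (by rw [reassoc_of% h₁])) l l' h₁ rfl h₃ e.symm

theorem smooth_comp {f : F ⟶ G} {g : G ⟶ H} (hf : IsFormallySmoothMor f) (hg : IsFormallySmoothMor g) :
    IsFormallySmoothMor (f ≫ g) := by
  intro sq
  obtain ⟨m, h₁, h₂⟩ := hg (withMaps sq g (sq.top ≫ f) sq.bot (by rw [Category.assoc]; exact sq.comm))
  obtain ⟨l, h₃, h₄⟩ := hf (withMaps sq f sq.top m h₁.symm)
  exact ⟨l, h₃, by rw [reassoc_of% h₄]; exact h₂⟩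

theorem etale_comp {f : F ⟶ G} {g : G ⟶ H} (hf : IsFormallyEtaleMor f) (hg : IsFormallyEtaleMor g) :
    IsFormallyEtaleMor (f ≫ g) := fun sq => by
  obtain ⟨l, hl⟩ := smooth_comp (smooth_of_etale hf) (smooth_of_etale hg) sq
  exact ⟨l, hl, fun l' hl' => unramified_comp (unramified_of_etale hf) (unramified_of_etale hg) sq l' l
    hl'.1 hl'.2 hl.1 hl.2⟩

theorem unramified_cancel {f : F ⟶ G} {g : G ⟶ H} (h : IsFormallyUnramifiedMor (f ≫ g)) :
    IsFormallyUnramifiedMor f := fun sq l l' h₁ h₂ h₃ h₄ =>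
  h (withMaps sq (f ≫ g) sq.top (sq.bot ≫ g) (by rw [reassoc_of% sq.comm])) l l' h₁
    (by rw [reassoc_of% h₂]) h₃ (by rw [reassoc_of% h₄])

theorem smooth_cancel {f : F ⟶ G} {g : G ⟶ H} (h : IsFormallySmoothMor (f ≫ g))
    (hg : IsFormallyUnramifiedMor g) : IsFormallySmoothMor f := fun sq => by
  obtain ⟨l, h₁, h₂⟩ := h (withMaps sq (f ≫ g) sq.top (sq.bot ≫ g) (by rw [reassoc_of% sq.comm]))
  refine ⟨l, h₁, hg (withMaps sq g ((yon S).map sq.j ≫ sq.bot) (sq.bot ≫ g) (Category.assoc _ _ _)) _ _ ?_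
    (by rw [Category.assoc]; exact h₂) rfl rfl⟩
  exact (congrArg (· ≫ f) h₁).trans sq.comm |> fun e => by simpa only [Category.assoc] using e

theorem etale_cancel {f : F ⟶ G} {g : G ⟶ H} (h : IsFormallyEtaleMor (f ≫ g))
    (hg : IsFormallyUnramifiedMor g) : IsFormallyEtaleMor f := fun sq => by
  obtain ⟨l, hl⟩ := smooth_cancel (smooth_of_etale h) hg sq
  exact ⟨l, hl, fun l' hl' => unramified_cancel (unramified_of_etale h) sq l' l hl'.1 hl'.2 hl.1 hl.2⟩

/-- Uniqueness of lifts, from the representing morphisms of schemes. -/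
theorem unramified_of_repWith {f : F ⟶ G} {P : MorphismProperty Scheme.{u}} (hf : RepWith P f)
    (hP : ∀ {A B : Scheme.{u}} (k : A ⟶ B), P k → FormallyUnramified k) : IsFormallyUnramifiedMor f := by
  intro sq l l' h₁ h₂ h₃ h₄
  obtain ⟨V, fst, snd, sqV⟩ := exists_sq hf.1 sq.bot
  have : FormallyUnramified snd.left := hP _ (hf.2 _ _ _ sqV)
  let σ := pre (sqV.lift l (𝟙 _) (by rw [Category.id_comp]; exact h₂))
  let σ' := pre (sqV.lift l' (𝟙 _) (by rw [Category.id_comp]; exact h₄))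
  have e₁ : σ ≫ snd = 𝟙 _ := (yon S).map_injective (by simp [σ])
  have e₂ : σ' ≫ snd = 𝟙 _ := (yon S).map_injective (by simp [σ'])
  have e₀ : sq.j ≫ σ = sq.j ≫ σ' := (yon S).map_injective (by
    refine sqV.hom_ext ?_ ?_
    · simp only [σ, σ', Functor.map_comp, map_pre, Category.assoc, IsPullback.lift_fst]
      rw [h₁, h₃]
    · simp only [σ, σ', Functor.map_comp, map_pre, Category.assoc, IsPullback.lift_snd])
  have hth := FlatMorLib.isFirstOrderThickening_SpecMap_mk sq.I sq.sq_zero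
  have : IsClosedImmersion sq.j.left := hth.1.1
  have : σ.left = σ'.left := FormallyUnramified.hom_ext sq.j.left ⟨2, by rw [pow_two]; exact hth.2⟩ snd.left
    (congrArg CommaMorphism.left e₀) ((congrArg CommaMorphism.left e₁).trans (congrArg CommaMorphism.left e₂).symm)
  have e : σ = σ' := Over.OverMorphism.ext this
  have := congrArg (fun z => (yon S).map z ≫ fst) e
  simpa [σ, σ'] using this

/-- Existence of lifts, from the representing morphisms of schemes. -/
theorem smooth_of_repWith {f : F ⟶ G} {P : MorphismProperty Scheme.{u}} (hf : RepWith P f)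
    (hP : ∀ {A B : Scheme.{u}} (k : A ⟶ B), P k → MoreMor.IsFormallySmoothHom k) : IsFormallySmoothMor f := by
  intro sq
  obtain ⟨V, fst, snd, sqV⟩ := exists_sq hf.1 sq.bot
  let t₀ := pre (sqV.lift sq.top ((yon S).map sq.j) sq.comm)
  have e₀ : t₀ ≫ snd = sq.j := (yon S).map_injective (by simp [t₀])
  obtain ⟨σ, hσ₁, hσ₂⟩ := hP _ (hf.2 _ _ _ sqV) sq.A sq.I sq.sq_zero t₀.left (𝟙 _) (by
    rw [Category.comp_id]; exact (congrArg CommaMorphism.left e₀).symm)
  have hσ₂ : σ ≫ snd.left = 𝟙 _ := hσ₂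
  let σ' : sq.ptT' ⟶ V := Over.homMk σ (by
    change σ ≫ V.hom = sq.str
    rw [← Over.w snd, reassoc_of% hσ₂]; rfl)
  refine ⟨(yon S).map σ' ≫ fst, ?_, ?_⟩
  · rw [← Functor.map_comp_assoc, show sq.j ≫ σ' = t₀ from Over.OverMorphism.ext hσ₁, map_pre, sqV.lift_fst]
  · rw [Category.assoc, sqV.w, ← Functor.map_comp_assoc, show σ' ≫ snd = 𝟙 _ from Over.OverMorphism.ext hσ₂,
      CategoryTheory.Functor.map_id, Category.id_comp]

theorem etale_of_repWith {f : F ⟶ G} {P : MorphismProperty Scheme.{u}} (hf : RepWith P f)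
    (hP : ∀ {A B : Scheme.{u}} (k : A ⟶ B), P k → MoreMor.IsFormallyEtaleHom k)
    (hP' : ∀ {A B : Scheme.{u}} (k : A ⟶ B), P k → FormallyUnramified k) : IsFormallyEtaleMor f := fun sq => by
  obtain ⟨l, hl⟩ := smooth_of_repWith hf (fun k hk => FlatMorLib.isFormallySmoothHom_of_isFormallyEtaleHom (hP k hk)) sq
  exact ⟨l, hl, fun l' hl' => unramified_of_repWith hf hP' sq l' l hl'.1 hl'.2 hl.1 hl.2⟩

theorem etale_of_repWith_etale {f : F ⟶ G} (hf : RepWith @Etale f) : IsFormallyEtaleMor f :=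
  etale_of_repWith hf (fun k (_ : Etale k) => ((FlatMorLib.etale_iff_lfp_and_isFormallyEtaleHom k).1 ‹_›).2)
    fun k (_ : Etale k) => inferInstance

/-- An affine neighbourhood in a scheme etale over an affine scheme. -/
theorem exists_etale_chart {R : Type u} [CommRing R] {str : Spec (CommRingCat.of R) ⟶ S} {W : Over S}
    (c : W ⟶ Over.mk str) [Etale c.left] (w : ↥W.left) :
    ∃ (Q : Type u) (_ : CommRing Q) (φ : R →+* Q) (e : Over.mk (Spec.map (CommRingCat.ofHom φ) ≫ str) ⟶ W),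
      φ.Etale ∧ e ≫ c = Over.homMk (Spec.map (CommRingCat.ofHom φ)) rfl ∧ w ∈ Set.range e.left := by
  obtain ⟨O, hO, hw, -⟩ := exists_isAffineOpen_mem_and_subset (show w ∈ (⊤ : W.left.Opens) from trivial)
  obtain ⟨φ, hφ⟩ := Spec.map_surjective (hO.fromSpec ≫ c.left)
  have het : Etale (Spec.map φ) := hφ ▸ inferInstance
  refine ⟨Γ(W.left, O), inferInstance, φ.hom, Over.homMk hO.fromSpec ?_, ?_, ?_, ?_⟩
  · change hO.fromSpec ≫ W.hom = Spec.map φ ≫ str
    rw [hφ, Category.assoc]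
    exact congrArg (hO.fromSpec ≫ ·) (Over.w c).symm
  · exact (HasRingHomProperty.Spec_iff (P := @Etale)).1 het
  · exact Over.OverMorphism.ext hφ.symm
  · change w ∈ Set.range hO.fromSpec
    rw [hO.range_fromSpec]; exact hw

/-- Gluing along fppf coverings of a scheme. -/
theorem existsUnique_glue_fppf {X : Sp S} {T : Over S} {κ : Type u} (U : κ → Over S) (v : ∀ k, U k ⟶ T)
    (hv : ∀ k, Flat (v k).left) (hv' : ∀ k, LocallyOfFinitePresentation (v k).left)
    (hs : ∀ t : ↥T.left, ∃ k, t ∈ Set.range (v k).left) (x : ∀ k, (yon S).obj (U k) ⟶ X)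
    (hx : ∀ (k k' : κ) ⦃Z : Over S⦄ (a : Z ⟶ U k) (b : Z ⟶ U k'), a ≫ v k = b ≫ v k' →
      (yon S).map a ≫ x k = (yon S).map b ≫ x k') :
    ∃! y : (yon S).obj T ⟶ X, ∀ k, (yon S).map (v k) ≫ y = x k := by
  have hmem := ofArrows_mem_J U v hv hv' hs
  have hX : Presieve.IsSheafFor X.obj (Presieve.ofArrows U v) :=
    (Presieve.isSheafFor_iff_generate _).2 (((isSheaf_iff_isSheaf_of_type _ _).1 X.property) _ hmem)
  rw [Presieve.isSheafFor_arrows_iff] at hX
  obtain ⟨t, ht, htu⟩ := hX (fun k => (J S).uliftYonedaEquiv (x k)) fun k k' Z a b w => by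
    rw [GrothendieckTopology.uliftYonedaEquiv_naturality, GrothendieckTopology.uliftYonedaEquiv_naturality]
    exact congrArg _ (hx k k' a b w)
  refine ⟨(J S).uliftYonedaEquiv.symm t, fun k => ?_, fun y hy => ?_⟩
  · apply (J S).uliftYonedaEquiv.injective
    rw [← GrothendieckTopology.uliftYonedaEquiv_naturality, Equiv.apply_symm_apply]
    exact ht k
  · rw [Equiv.eq_symm_apply]
    refine htu _ fun k => ?_
    rw [GrothendieckTopology.uliftYonedaEquiv_naturality, hy k]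

end Groth.Agent.AlgSpFormal

namespace Groth.Agent.AlgSpFormal

open _root_.AlgSp

variable {S : Scheme.{u}} {F G H P : Sp S} {a : F ⟶ G} {b : H ⟶ G} {b' : P ⟶ F} {a' : P ⟶ H}

theorem unramified_bc (sqP : IsPullback b' a' a b) (ha : IsFormallyUnramifiedMor a) :
    IsFormallyUnramifiedMor a' := fun sq l l' h₁ h₂ h₃ h₄ =>
  sqP.hom_ext
    (ha (withMaps sq a (sq.top ≫ b') (sq.bot ≫ b) (by rw [Category.assoc, sqP.w, reassoc_of% sq.comm]))
      (l ≫ b') (l' ≫ b') (by rw [reassoc_of% h₁]) ((Category.assoc _ _ _).trans ((congrArg (l ≫ ·) sqP.w).trans ((reassoc_of% h₂) b)))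
      (by rw [reassoc_of% h₃]) ((Category.assoc _ _ _).trans ((congrArg (l' ≫ ·) sqP.w).trans ((reassoc_of% h₄) b))))
    (h₂.trans h₄.symm)

theorem smooth_bc (sqP : IsPullback b' a' a b) (ha : IsFormallySmoothMor a) : IsFormallySmoothMor a' := fun sq => by
  obtain ⟨l, h₁, h₂⟩ :=
    ha (withMaps sq a (sq.top ≫ b') (sq.bot ≫ b) (by rw [Category.assoc, sqP.w, reassoc_of% sq.comm]))
  refine ⟨sqP.lift l sq.bot h₂, sqP.hom_ext ?_ ?_, sqP.lift_snd _ _ _⟩
  · rw [Category.assoc, sqP.lift_fst]; exact h₁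
  · rw [Category.assoc, sqP.lift_snd]; exact sq.comm.symm

theorem etale_bc (sqP : IsPullback b' a' a b) (ha : IsFormallyEtaleMor a) : IsFormallyEtaleMor a' := fun sq => by
  obtain ⟨l, hl⟩ := smooth_bc sqP (smooth_of_etale ha) sq
  exact ⟨l, hl, fun l' hl' => unramified_bc sqP (unramified_of_etale ha) sq l' l hl'.1 hl'.2 hl.1 hl.2⟩

end Groth.Agent.AlgSpFormal
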