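import Groth.Agent.AlgSpFormal.Cover
import Groth.Agent.AlgSpc.LocP

/-!
Formal unramifiedness and formal etaleness of morphisms of algebraic spaces on etale charts.
-/

set_option autoImplicit false
set_option backward.isDefEq.respectTransparency false

universe u

open CategoryTheory CategoryTheory.Limits AlgebraicGeometry Opposite

namespace Groth.Agent.AlgSpFormal

open _root_.AlgSp Groth.Agent.AlgSpc Groth.Agent.AlgSpLoc

variable {S : Scheme.{u}}

/-- The lifting square of a square of schemes. -/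
noncomputable abbrev ofSchemeSq {U V : Over S} (h : U ⟶ V) {A : Type u} [CommRing A] (I : Ideal A) (hI : I ^ 2 = ⊥)
    (a : Spec (CommRingCat.of (A ⧸ I)) ⟶ U.left) (b : Spec (CommRingCat.of A) ⟶ V.left)
    (w : Spec.map (CommRingCat.ofHom (Ideal.Quotient.mk I)) ≫ b = a ≫ h.left) : InfSq ((yon S).map h) where
  A := A
  I := I
  sq_zero := hI
  str := b ≫ V.hom
  top := (yon S).map (Over.homMk a (by
    change a ≫ U.hom = _ ≫ b ≫ V.hom
    rw [reassoc_of% w, Over.w]) : Over.mk (Spec.map (CommRingCat.ofHom (Ideal.Quotient.mk I)) ≫ b ≫ V.hom) ⟶ U)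
  bot := (yon S).map (Over.homMk b rfl : Over.mk (b ≫ V.hom) ⟶ V)
  comm := by
    rw [← Functor.map_comp, ← Functor.map_comp]
    exact congrArg (yon S).map (Over.OverMorphism.ext w.symm)

theorem formallyUnramified_left {U V : Over S} {h : U ⟶ V} (hh : IsFormallyUnramifiedMor ((yon S).map h)) :
    FormallyUnramified h.left := by
  refine FormallyUnramified.of_hom_ext h.left fun R R' φ hφ hI g₁ g₂ e₁ e₂ => ?_
  let e := RingHom.quotientKerEquivOfSurjective hφ
  have hφ' : φ = CommRingCat.ofHom (Ideal.Quotient.mk (RingHom.ker φ.hom)) ≫ CommRingCat.ofHom e.toRingHom := by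
    ext x; rfl
  have : IsIso (Spec.map (CommRingCat.ofHom e.toRingHom)) := inferInstanceAs (IsIso (Spec.map e.toCommRingCatIso.hom))
  rw [hφ', Spec.map_comp, Category.assoc, Category.assoc, cancel_epi] at e₁
  let sq := ofSchemeSq h (RingHom.ker φ.hom) hI (Spec.map (CommRingCat.ofHom (Ideal.Quotient.mk _)) ≫ g₁)
    (g₁ ≫ h.left) (Category.assoc _ _ _).symm
  let l₁ : sq.ptT' ⟶ U := Over.homMk g₁ (by
    change g₁ ≫ U.hom = (g₁ ≫ h.left) ≫ V.hom
    rw [Category.assoc, Over.w])
  let l₂ : sq.ptT' ⟶ U := Over.homMk g₂ (by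
    change g₂ ≫ U.hom = (g₁ ≫ h.left) ≫ V.hom
    rw [e₂, Category.assoc, Over.w])
  have := hh sq ((yon S).map l₁) ((yon S).map l₂)
    (by rw [← Functor.map_comp]; exact congrArg (yon S).map (Over.OverMorphism.ext rfl))
    (by rw [← Functor.map_comp]; exact congrArg (yon S).map (Over.OverMorphism.ext rfl))
    (by rw [← Functor.map_comp]; exact congrArg (yon S).map (Over.OverMorphism.ext e₁.symm))
    (by rw [← Functor.map_comp]; exact congrArg (yon S).map (Over.OverMorphism.ext e₂.symm))
  exact congrArg CommaMorphism.left ((yon S).map_injective this)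

theorem isFormallySmoothHom_left {U V : Over S} {h : U ⟶ V} (hh : IsFormallySmoothMor ((yon S).map h)) :
    MoreMor.IsFormallySmoothHom h.left := by
  intro A _ I hI a b w
  obtain ⟨l, h₁, h₂⟩ := hh (ofSchemeSq h I hI a b w)
  obtain ⟨l, rfl⟩ := (yon S).map_surjective l
  rw [← Functor.map_comp] at h₁ h₂
  exact ⟨l.left, congrArg CommaMorphism.left ((yon S).map_injective h₁),
    congrArg CommaMorphism.left ((yon S).map_injective h₂)⟩

theorem isFormallyEtaleHom_left {U V : Over S} {h : U ⟶ V} (hh : IsFormallyEtaleMor ((yon S).map h)) :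
    MoreMor.IsFormallyEtaleHom h.left := by
  have := formallyUnramified_left (unramified_of_etale hh)
  intro A _ I hI a b w
  obtain ⟨l, h₁, h₂⟩ := isFormallySmoothHom_left (smooth_of_etale hh) A I hI a b w
  refine ⟨l, ⟨h₁, h₂⟩, fun l' ⟨h₁', h₂'⟩ => ?_⟩
  have hth := FlatMorLib.isFirstOrderThickening_SpecMap_mk I hI
  have : IsClosedImmersion (Spec.map (CommRingCat.ofHom (Ideal.Quotient.mk I))) := hth.1.1
  exact FormallyUnramified.hom_ext _ ⟨2, by rw [pow_two]; exact hth.2⟩ h.left (h₁'.trans h₁.symm)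
    (h₂'.trans h₂.symm)

/-- Formally etale morphisms of schemes are formally unramified. -/
theorem formallyUnramified_of_isFormallyEtaleHom {A B : Scheme.{u}} {k : A ⟶ B}
    (hk : MoreMor.IsFormallyEtaleHom k) : FormallyUnramified k := by
  refine ⟨fun {U} hU {V} hV e => ?_⟩
  have h := FlatMorLib.formallyEtale_appLE k hV hU e hk
  let := (k.appLE U V e).hom.toAlgebra
  have : Algebra.FormallyEtale Γ(B, U) Γ(A, V) := h
  exact (inferInstance : Algebra.FormallyUnramified Γ(B, U) Γ(A, V))

theorem unramified_yon_map_iff {U V : Over S} {h : U ⟶ V} :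
    IsFormallyUnramifiedMor ((yon S).map h) ↔ FormallyUnramified h.left :=
  ⟨formallyUnramified_left, fun hh => unramified_of_repWith
    ((repWith_yon_map_iff @FormallyUnramified h).2 hh) fun _ hk => hk⟩

theorem etale_yon_map_of {U V : Over S} {h : U ⟶ V} {P : MorphismProperty Scheme.{u}}
    [P.IsStableUnderBaseChange] (hh : P h.left)
    (hP : ∀ {A B : Scheme.{u}} (k : A ⟶ B), P k → MoreMor.IsFormallyEtaleHom k) :
    IsFormallyEtaleMor ((yon S).map h) :=
  etale_of_repWith ((repWith_yon_map_iff P h).2 hh) hP fun k hk => formallyUnramified_of_isFormallyEtaleHom (hP k hk)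

variable {X Y : Sp S} {f : X ⟶ Y}

theorem unramified_of_chart {U V : Over S} {a : (yon S).obj U ⟶ X} {b : (yon S).obj V ⟶ Y} {h : U ⟶ V}
    (ha : RepWith @Etale a) (has : RepWith @Surjective a) (hb : RepWith @Etale b)
    (w : a ≫ f = (yon S).map h ≫ b) (hh : FormallyUnramified h.left) : IsFormallyUnramifiedMor f :=
  unramified_of_cover ha has (by
    rw [w]; exact unramified_comp (unramified_yon_map_iff.2 hh) (unramified_of_etale (etale_of_repWith_etale hb)))

theorem unramified_iff_locP (hX : IsAlgSpace X) (hY : IsAlgSpace Y) :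
    IsFormallyUnramifiedMor f ↔ LocP @FormallyUnramified f := by
  refine ⟨fun hf U V a b h ha hb w => unramified_yon_map_iff.1 (unramified_cancel (g := b) ?_), fun hf => ?_⟩
  · rw [← w]; exact unramified_comp (unramified_of_etale (etale_of_repWith_etale ha)) hf
  · obtain ⟨U, V, a, b, h, ha, has, hb, -, w⟩ := exists_chart hX hY f
    exact unramified_of_chart ha has hb w (hf a b h ha hb w)

theorem etale_chart_left {U V : Over S} {a : (yon S).obj U ⟶ X} {b : (yon S).obj V ⟶ Y} {h : U ⟶ V}
    (ha : RepWith @Etale a) (hb : RepWith @Etale b) (w : a ≫ f = (yon S).map h ≫ b)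
    (hf : IsFormallyEtaleMor f) : IsFormallyEtaleMor ((yon S).map h) := by
  refine etale_cancel (g := b) ?_ (unramified_of_etale (etale_of_repWith_etale hb))
  rw [← w]; exact etale_comp (etale_of_repWith_etale ha) hf

instance isStableUnderBaseChange_formallyEtaleHom :
    MorphismProperty.IsStableUnderBaseChange (@MoreMor.IsFormallyEtaleHom : MorphismProperty Scheme.{u}) where
  of_isPullback sq h := FlatMorLib.isFormallyEtaleHom_baseChange sq h

theorem etale_yon_map_iff {U V : Over S} {h : U ⟶ V} :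
    IsFormallyEtaleMor ((yon S).map h) ↔ MoreMor.IsFormallyEtaleHom h.left :=
  ⟨isFormallyEtaleHom_left, fun hh => etale_yon_map_of hh fun _ hk => hk⟩

theorem etale_of_chart {U V : Over S} {a : (yon S).obj U ⟶ X} {b : (yon S).obj V ⟶ Y} {h : U ⟶ V}
    (ha : RepWith @Etale a) (has : RepWith @Surjective a) (hb : RepWith @Etale b)
    (w : a ≫ f = (yon S).map h ≫ b) (hh : MoreMor.IsFormallyEtaleHom h.left) : IsFormallyEtaleMor f :=
  etale_of_cover ha has (by
    rw [w]; exact etale_comp (etale_yon_map_iff.2 hh) (etale_of_repWith_etale hb))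

theorem etale_iff_locP (hX : IsAlgSpace X) (hY : IsAlgSpace Y) :
    IsFormallyEtaleMor f ↔ LocP @MoreMor.IsFormallyEtaleHom f := by
  refine ⟨fun hf U V a b h ha hb w => isFormallyEtaleHom_left (etale_chart_left ha hb w hf), fun hf => ?_⟩
  obtain ⟨U, V, a, b, h, ha, has, hb, -, w⟩ := exists_chart hX hY f
  exact etale_of_chart ha has hb w (hf a b h ha hb w)

theorem locP_etale_iff (hX : IsAlgSpace X) (hY : IsAlgSpace Y) :
    LocP @Etale f ↔ LocP @LocallyOfFinitePresentation f ∧ IsFormallyEtaleMor f := by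
  rw [etale_iff_locP hX hY]
  exact ⟨fun h => ⟨fun _ _ a b k ha hb w => ((FlatMorLib.etale_iff_lfp_and_isFormallyEtaleHom _).1 (h a b k ha hb w)).1,
      fun _ _ a b k ha hb w => ((FlatMorLib.etale_iff_lfp_and_isFormallyEtaleHom _).1 (h a b k ha hb w)).2⟩,
    fun h _ _ a b k ha hb w =>
      (FlatMorLib.etale_iff_lfp_and_isFormallyEtaleHom _).2 ⟨h.1 a b k ha hb w, h.2 a b k ha hb w⟩⟩

theorem etale_of_isEtaleMor (hX : IsAlgSpace X) (hY : IsAlgSpace Y) (hf : IsEtaleMor f) : IsFormallyEtaleMor f :=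
  ((locP_etale_iff hX hY).1 ((isEtaleMor_iff_locP hX hY).1 hf)).2

end Groth.Agent.AlgSpFormal
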