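import Groth.Agent.AlgSpFormal.Basic

/-!
Formal unramifiedness and formal etaleness descend along representable etale surjections of the source.
-/

set_option autoImplicit false
set_option backward.isDefEq.respectTransparency false

universe u

open CategoryTheory CategoryTheory.Limits AlgebraicGeometry Opposite

namespace Groth.Agent.AlgSpFormal

open _root_.AlgSp Groth.Agent.AlgSpc Groth.Agent.AlgSpLoc

variable {S : Scheme.{u}} {F G H : Sp S}

theorem surjective_j {f : F ⟶ G} (sq : InfSq f) : Function.Surjective sq.j.left :=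
  (FlatMorLib.surjective_SpecMap_mk sq.I sq.sq_zero).surj

theorem mono_j {f : F ⟶ G} (sq : InfSq f) : Mono sq.j := by
  have := (FlatMorLib.isFirstOrderThickening_SpecMap_mk sq.I sq.sq_zero).1.1
  have : Mono ((Over.forget S).map sq.j) := inferInstanceAs (Mono sq.j.left)
  exact (Over.forget S).mono_of_mono_map this

theorem flat_lfp_bcT' {f : F ⟶ G} (sq : InfSq f) {Q : Type u} [CommRing Q] {φ : sq.A →+* Q} (hφ : φ.Etale) :
    Flat (bcT' sq φ).left ∧ LocallyOfFinitePresentation (bcT' sq φ).left := by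
  have : Etale (Spec.map (CommRingCat.ofHom φ)) := (HasRingHomProperty.Spec_iff (P := @Etale)).2 hφ
  exact ⟨inferInstanceAs (Flat (Spec.map (CommRingCat.ofHom φ))),
    inferInstanceAs (LocallyOfFinitePresentation (Spec.map (CommRingCat.ofHom φ)))⟩

/-- A morphism into the target of an etale surjection lifts on an etale neighbourhood. -/
theorem exists_lift_nbhd {f : F ⟶ G} (sq : InfSq f) {X Y : Sp S} {a : X ⟶ Y} (ha : RepWith @Etale a)
    (ha' : RepWith @Surjective a) (l : (yon S).obj sq.ptT' ⟶ Y) (t : ↥sq.ptT'.left) :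
    ∃ (Q : Type u) (_ : CommRing Q) (φ : sq.A →+* Q) (u : (yon S).obj (bc sq φ).ptT' ⟶ X),
      φ.Etale ∧ t ∈ Set.range (bcT' sq φ).left ∧ u ≫ a = (yon S).map (bcT' sq φ) ≫ l := by
  obtain ⟨W, fst, snd, sqW⟩ := exists_sq ha.1 l
  have : Etale snd.left := ha.2 _ _ _ sqW
  have : Surjective snd.left := ha'.2 _ _ _ sqW
  obtain ⟨w, rfl⟩ := snd.left.surjective t
  obtain ⟨Q, _, φ, e, hφ, he, z, rfl⟩ := exists_etale_chart (R := sq.A) (str := sq.str) snd w
  refine ⟨Q, inferInstance, φ, (yon S).map e ≫ fst, hφ, ⟨z, ?_⟩, ?_⟩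
  · exact (congrArg (fun c : _ ⟶ Over.mk sq.str => c.left z) he).symm
  · rw [Category.assoc, sqW.w, ← Functor.map_comp_assoc, he]
    rfl

/-- A morphism from the closed subscheme into the target of an etale surjection lifts on the trace of an
etale neighbourhood. -/
theorem exists_top_lift_nbhd {f : F ⟶ G} (sq : InfSq f) {X : Sp S} {a : X ⟶ F} (ha : RepWith @Etale a)
    (ha' : RepWith @Surjective a) (t : ↥sq.ptT'.left) :
    ∃ (Q : Type u) (_ : CommRing Q) (φ : sq.A →+* Q) (u : (yon S).obj (bc sq φ).ptT ⟶ X),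
      φ.Etale ∧ Etale (bcT sq φ).left ∧ t ∈ Set.range (bcT' sq φ).left ∧
        u ≫ a = (yon S).map (bcT sq φ) ≫ sq.top := by
  obtain ⟨t₀, rfl⟩ := surjective_j sq t
  obtain ⟨W, fst, snd, sqW⟩ := exists_sq ha.1 sq.top
  have : Etale snd.left := ha.2 _ _ _ sqW
  have : Surjective snd.left := ha'.2 _ _ _ sqW
  obtain ⟨w, rfl⟩ := snd.left.surjective t₀
  obtain ⟨Q₀, _, φ₀, e, hφ₀, he, z, rfl⟩ := exists_etale_chart (R := sq.A ⧸ sq.I)
    (str := Spec.map (CommRingCat.ofHom (Ideal.Quotient.mk sq.I)) ≫ sq.str) snd w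
  algebraize [φ₀, φ₀.comp (Ideal.Quotient.mk sq.I)]
  obtain ⟨Q, _, _, σ, hQ, hσ, hker⟩ := exists_etale_lift sq.A (sq.A ⧸ sq.I) Q₀ Ideal.Quotient.mk_surjective
  have hσφ : σ.toRingHom.comp (algebraMap sq.A Q) = φ₀.comp (Ideal.Quotient.mk sq.I) :=
    RingHom.ext fun a => σ.commutes a
  have hker' : RingHom.ker σ.toRingHom = sq.I.map (algebraMap sq.A Q) :=
    hker.trans (congrArg _ Ideal.mk_ker)
  let θ : Q ⧸ sq.I.map (algebraMap sq.A Q) ≃+* Q₀ :=
    (Ideal.quotEquivOfEq hker'.symm).trans (RingHom.quotientKerEquivOfSurjective hσ)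
  have hθ : θ.toRingHom.comp (Ideal.quotientMap _ (algebraMap sq.A Q) Ideal.le_comap_map) = φ₀ := by
    refine Ideal.Quotient.ringHom_ext (RingHom.ext fun a => ?_)
    exact congr($hσφ a)
  have hθ' : θ.symm.toRingHom.comp φ₀ = Ideal.quotientMap _ (algebraMap sq.A Q) Ideal.le_comap_map := by
    rw [← hθ]
    exact RingHom.ext fun x => θ.symm_apply_apply _
  let c : (bc sq (algebraMap sq.A Q)).ptT ⟶ Over.mk (Spec.map (CommRingCat.ofHom φ₀) ≫
      Spec.map (CommRingCat.ofHom (Ideal.Quotient.mk sq.I)) ≫ sq.str) :=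
    Over.homMk (Spec.map (CommRingCat.ofHom θ.symm.toRingHom)) (by
      simp only [Over.mk_hom, ← Spec.map_comp_assoc, ← CommRingCat.ofHom_comp]
      rw [← RingHom.comp_assoc, hθ', Ideal.quotientMap_comp_mk])
  have hc : c ≫ e ≫ snd = bcT sq (algebraMap sq.A Q) := by
    rw [he]
    apply Over.OverMorphism.ext
    simp only [c, bcT, Over.comp_left, Over.homMk_left, ← Spec.map_comp, ← CommRingCat.ofHom_comp, hθ']
  refine ⟨Q, inferInstance, algebraMap sq.A Q, (yon S).map c ≫ (yon S).map e ≫ fst,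
    (RingHom.etale_algebraMap).2 hQ, ?_, ?_, ?_⟩
  · have : IsIso c.left :=
      inferInstanceAs (IsIso (Spec.map θ.symm.toCommRingCatIso.hom))
    have : Etale (e ≫ snd).left := by
      rw [he]
      exact (HasRingHomProperty.Spec_iff (P := @Etale)).2 hφ₀
    rw [← hc]
    exact inferInstanceAs (Etale (c.left ≫ (e ≫ snd).left))
  · have : IsIso c.left :=
      inferInstanceAs (IsIso (Spec.map θ.symm.toCommRingCatIso.hom))
    obtain ⟨z', rfl⟩ := c.left.surjective z
    refine ⟨(bc sq (algebraMap sq.A Q)).j.left z', ?_⟩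
    rw [← Scheme.Hom.comp_apply, ← Over.comp_left, j_bcT', ← hc]
    rfl
  · rw [Category.assoc, Category.assoc, sqW.w, ← Functor.map_comp_assoc, ← Functor.map_comp_assoc, Category.assoc c, hc]

theorem unramified_of_cover {a : F ⟶ G} {b : G ⟶ H} (ha : RepWith @Etale a) (ha' : RepWith @Surjective a)
    (h : IsFormallyUnramifiedMor (a ≫ b)) : IsFormallyUnramifiedMor b := by
  intro sq l l' h₁ h₂ h₃ h₄
  choose Q iQ φ u hφ ht hu using exists_lift_nbhd sq ha ha' l
  have key : ∀ t, (yon S).map (bcT' sq (φ t)) ≫ l = (yon S).map (bcT' sq (φ t)) ≫ l' := fun t => by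
    let w := (yon S).map (bc sq (φ t)).j ≫ u t
    have hw : w ≫ a = (yon S).map (bc sq (φ t)).j ≫ (yon S).map (bcT' sq (φ t)) ≫ l' := by
      refine (Category.assoc _ _ _).trans ((congrArg ((yon S).map (bc sq (φ t)).j ≫ ·) (hu t)).trans ?_)
      refine (restrict_top sq (φ t) l).trans (Eq.trans ?_ (restrict_top sq (φ t) l').symm)
      exact congrArg ((yon S).map (bcT sq (φ t)) ≫ ·) (h₁.trans h₃.symm)
    obtain ⟨u', hu'₁, hu'₂⟩ := (etale_of_repWith_etale ha (withMaps (bc sq (φ t)) a w ((yon S).map (bcT' sq (φ t)) ≫ l') hw)).exists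
    have hu'₂ : u' ≫ a = (yon S).map (bcT' sq (φ t)) ≫ l' := hu'₂
    have e : u t = u' := h (withMaps (bc sq (φ t)) (a ≫ b) w (bc sq (φ t)).bot ((reassoc_of% hw) b |>.trans
        (congrArg (fun z => (yon S).map (bc sq (φ t)).j ≫ (yon S).map (bcT' sq (φ t)) ≫ z) h₄)))
      (u t) u' rfl ((reassoc_of% (hu t)) b |>.trans (congrArg ((yon S).map (bcT' sq (φ t)) ≫ ·) h₂)) hu'₁
      ((reassoc_of% hu'₂) b |>.trans (congrArg ((yon S).map (bcT' sq (φ t)) ≫ ·) h₄))
    rw [← hu, e, hu'₂]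
  exact (existsUnique_glue_fppf _ (fun t => bcT' sq (φ t)) (fun t => (flat_lfp_bcT' sq (hφ t)).1)
    (fun t => (flat_lfp_bcT' sq (hφ t)).2) (fun t => ⟨t, ht t⟩) (fun t => (yon S).map (bcT' sq (φ t)) ≫ l)
    fun k k' Z a b w => by rw [← Functor.map_comp_assoc, w, Functor.map_comp_assoc]).unique
      (fun _ => rfl) fun t => (key t).symm

/-- Local lifts glue when lifts are unique. -/
theorem exists_lift_of_local {b : G ⟶ H} (sq : InfSq b) (Q : ↥sq.ptT'.left → Type u) [∀ t, CommRing (Q t)]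
    (φ : ∀ t, sq.A →+* Q t) (hφ : ∀ t, (φ t).Etale) (hφT : ∀ t, Etale (bcT sq (φ t)).left)
    (ht : ∀ t, t ∈ Set.range (bcT' sq (φ t)).left) (L : ∀ t, (yon S).obj (bc sq (φ t)).ptT' ⟶ G)
    (hL₁ : ∀ t, (yon S).map (bc sq (φ t)).j ≫ L t = (bc sq (φ t)).top)
    (hL₂ : ∀ t, L t ≫ b = (bc sq (φ t)).bot)
    (hu : ∀ {R : Type u} [CommRing R] (ψ : sq.A →+* R), (bc sq ψ).HasUniq) : sq.HasLift := by
  have compat : ∀ k k' ⦃Z : Over S⦄ (x : Z ⟶ (bc sq (φ k)).ptT') (y : Z ⟶ (bc sq (φ k')).ptT'),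
      x ≫ bcT' sq (φ k) = y ≫ bcT' sq (φ k') → (yon S).map x ≫ L k = (yon S).map y ≫ L k' := by
    intro k k' Z x y w
    choose O hO hzO using fun z : ↥Z.left =>
      exists_isAffineOpen_mem_and_subset (show z ∈ (⊤ : Z.left.Opens) from trivial)
    refine hom_ext_of_openCover (fun z => Over.mk ((hO z).fromSpec ≫ Z.hom))
      (fun z => Over.homMk (hO z).fromSpec rfl)
      (fun z => inferInstanceAs (IsOpenImmersion (hO z).fromSpec)) (fun z => ⟨z, ?_⟩) fun z => ?_
    · change z ∈ Set.range (hO z).fromSpec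
      rw [(hO z).range_fromSpec]; exact (hzO z).1
    let i : Over.mk ((hO z).fromSpec ≫ Z.hom) ⟶ Z := Over.homMk (hO z).fromSpec rfl
    obtain ⟨ψ, hψ⟩ := Spec.map_surjective ((hO z).fromSpec ≫ (x ≫ bcT' sq (φ k)).left)
    let P := bc sq ψ.hom
    let ζ : P.ptT' ⟶ Over.mk ((hO z).fromSpec ≫ Z.hom) := Over.homMk (𝟙 _) (by
      change 𝟙 _ ≫ (hO z).fromSpec ≫ Z.hom = Spec.map ψ ≫ sq.str
      rw [Category.id_comp, hψ, Category.assoc]
      exact congrArg ((hO z).fromSpec ≫ ·) (Over.w (x ≫ bcT' sq (φ k))).symm)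
    have hζ : ζ ≫ i ≫ x ≫ bcT' sq (φ k) = bcT' sq ψ.hom := Over.OverMorphism.ext (by
      change 𝟙 _ ≫ (hO z).fromSpec ≫ (x ≫ bcT' sq (φ k)).left = Spec.map ψ
      rw [Category.id_comp, hψ])
    have res : ∀ (k : ↥sq.ptT'.left) (c : P.ptT' ⟶ (bc sq (φ k)).ptT'), c ≫ bcT' sq (φ k) = bcT' sq ψ.hom →
        (yon S).map P.j ≫ (yon S).map c ≫ L k = P.top ∧ ((yon S).map c ≫ L k) ≫ b = P.bot := by
      intro k c hc
      constructor
      · obtain ⟨χ, hχ⟩ := Spec.map_surjective c.left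
        have hχφ : ψ.hom = χ.hom.comp (φ k) := by
          have := congrArg CommaMorphism.left hc
          simp only [bcT', Over.comp_left, Over.homMk_left, ← hχ, ← Spec.map_comp] at this
          exact congrArg CommRingCat.Hom.hom (Spec.map_injective this).symm
        have hle : (sq.I.map (φ k)) ≤ (sq.I.map ψ.hom).comap χ.hom := by
          rw [← Ideal.map_le_iff_le_comap, Ideal.map_map, hχφ]
        let c₀ : P.ptT ⟶ (bc sq (φ k)).ptT :=
          Over.homMk (Spec.map (CommRingCat.ofHom (Ideal.quotientMap _ χ.hom hle))) (by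
            simp only [P, Over.mk_hom, ← Spec.map_comp_assoc, ← CommRingCat.ofHom_comp]
            rw [← RingHom.comp_assoc, Ideal.quotientMap_comp_mk, RingHom.comp_assoc, ← hχφ])
        have hc₀ : c₀ ≫ (bc sq (φ k)).j = P.j ≫ c := Over.OverMorphism.ext (by
          simp only [c₀, Over.comp_left, Over.homMk_left, ← hχ, ← Spec.map_comp]
          exact congrArg Spec.map (CommRingCat.hom_ext (Ideal.quotientMap_comp_mk hle)))
        have hc₀' : c₀ ≫ bcT sq (φ k) = bcT sq ψ.hom := by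
          have := mono_j sq
          rw [← cancel_mono sq.j, Category.assoc, ← j_bcT', reassoc_of% hc₀, hc, j_bcT']
        rw [← Functor.map_comp_assoc, ← hc₀, Functor.map_comp_assoc, hL₁]
        change (yon S).map c₀ ≫ (yon S).map (bcT sq (φ k)) ≫ sq.top = (yon S).map (bcT sq ψ.hom) ≫ sq.top
        rw [← Functor.map_comp_assoc, hc₀']
      · rw [Category.assoc, hL₂]
        change (yon S).map c ≫ (yon S).map (bcT' sq (φ k)) ≫ sq.bot = (yon S).map (bcT' sq ψ.hom) ≫ sq.bot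
        rw [← Functor.map_comp_assoc, hc]
    obtain ⟨a₁, a₂⟩ := res k (ζ ≫ i ≫ x) (by simpa using hζ)
    obtain ⟨b₁, b₂⟩ := res k' (ζ ≫ i ≫ y) (by simpa [← w] using hζ)
    have heq := hu ψ.hom _ _ a₁ a₂ b₁ b₂
    simp only [Functor.map_comp, Category.assoc] at heq
    have : IsIso ζ := by
      have : IsIso ((Over.forget S).map ζ) := inferInstanceAs (IsIso (𝟙 _))
      exact isIso_of_reflects_iso ζ (Over.forget S)
    exact (cancel_epi ((yon S).map ζ)).1 heq
  obtain ⟨l, hl, -⟩ := existsUnique_glue_fppf _ (fun t => bcT' sq (φ t)) (fun t => (flat_lfp_bcT' sq (hφ t)).1)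
    (fun t => (flat_lfp_bcT' sq (hφ t)).2) (fun t => ⟨t, ht t⟩) L compat
  have l₂ : l ≫ b = sq.bot :=
    (existsUnique_glue_fppf _ (fun t => bcT' sq (φ t)) (fun t => (flat_lfp_bcT' sq (hφ t)).1)
      (fun t => (flat_lfp_bcT' sq (hφ t)).2) (fun t => ⟨t, ht t⟩)
      (fun t => (yon S).map (bcT' sq (φ t)) ≫ sq.bot) fun _ _ Z x y w => by
        rw [← Functor.map_comp_assoc, w, Functor.map_comp_assoc]).unique
      (fun t => by rw [reassoc_of% (hl t)]; exact hL₂ t) fun _ => rfl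
  have hJ : ∀ t, Flat (bcT sq (φ t)).left ∧ LocallyOfFinitePresentation (bcT sq (φ t)).left := fun t => by
    have := hφT t
    exact ⟨inferInstance, inferInstance⟩
  have l₁ : (yon S).map sq.j ≫ l = sq.top :=
    (existsUnique_glue_fppf _ (fun t => bcT sq (φ t)) (fun t => (hJ t).1) (fun t => (hJ t).2)
      (fun s => by
        obtain ⟨z, hz⟩ := ht (sq.j.left s)
        obtain ⟨z₀, rfl⟩ := surjective_j (bc sq (φ (sq.j.left s))) z
        refine ⟨_, z₀, ?_⟩
        have : IsClosedImmersion sq.j.left := (FlatMorLib.isFirstOrderThickening_SpecMap_mk sq.I sq.sq_zero).1.1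
        refine sq.j.left.isClosedEmbedding.injective ?_
        refine Eq.trans ?_ hz
        rw [← Scheme.Hom.comp_apply, ← Scheme.Hom.comp_apply, ← Over.comp_left, ← Over.comp_left, j_bcT'])
      (fun t => (yon S).map (bcT sq (φ t)) ≫ sq.top) fun _ _ Z x y w => by
        rw [← Functor.map_comp_assoc, w, Functor.map_comp_assoc]).unique
      (fun t => by rw [← restrict_top, hl t]; exact hL₁ t) fun _ => rfl
  exact ⟨l, l₁, l₂⟩

theorem etale_of_cover {a : F ⟶ G} {b : G ⟶ H} (ha : RepWith @Etale a) (ha' : RepWith @Surjective a)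
    (h : IsFormallyEtaleMor (a ≫ b)) : IsFormallyEtaleMor b := by
  have hu := unramified_of_cover ha ha' (unramified_of_etale h)
  intro sq
  choose Q iQ φ u₀ hφ hφT ht hu₀ using exists_top_lift_nbhd sq ha ha'
  choose u hu₁ hu₂ using fun t => (h (withMaps (bc sq (φ t)) (a ≫ b) (u₀ t) (bc sq (φ t)).bot (by
    rw [reassoc_of% (hu₀ t)]; exact (Category.assoc _ _ _).symm.trans (bc sq (φ t)).comm))).exists
  let L : ∀ t, (yon S).obj (bc sq (φ t)).ptT' ⟶ G := fun t => u t ≫ a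
  have hL₂ : ∀ t, L t ≫ b = (bc sq (φ t)).bot := fun t => (Category.assoc _ _ _).trans (hu₂ t)
  have hL₁ : ∀ t, (yon S).map (bc sq (φ t)).j ≫ L t = (bc sq (φ t)).top := fun t => by
    change (yon S).map (bc sq (φ t)).j ≫ u t ≫ a = _
    rw [reassoc_of% (hu₁ t)]; exact hu₀ t
  obtain ⟨l, hl⟩ := exists_lift_of_local sq Q φ hφ hφT ht L hL₁ hL₂ fun ψ => hu (bc sq ψ)
  exact ⟨l, hl, fun l' hl' => hu sq l' l hl'.1 hl'.2 hl.1 hl.2⟩

end Groth.Agent.AlgSpFormal
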