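import Groth.Agent.AlgSpFormal.FOThick
import Groth.Agent.FpqcDescent.Ideals

/-!
Base change of first order thickenings of algebraic spaces.
-/

set_option autoImplicit false
set_option backward.isDefEq.respectTransparency false

universe u

open CategoryTheory CategoryTheory.Limits AlgebraicGeometry Opposite

namespace Groth.Agent.AlgSpFormal

open _root_.AlgSp Groth.Agent.AlgSpc Groth.Agent.AlgSpLoc

variable {S : Scheme.{u}}

theorem ker_snd_of_isPullback {W V W' V' : Scheme.{u}} {i : W ⟶ V} [IsClosedImmersion i] {c : V' ⟶ V}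
    {fst : W' ⟶ W} {snd : W' ⟶ V'} (h : IsPullback fst snd i c) : snd.ker = i.ker.comap c := by
  rw [show snd = h.flip.isoPullback.hom ≫ pullback.fst c i from (h.flip.isoPullback_hom_fst).symm,
    Scheme.Hom.ker_comp_of_isIso, Scheme.IdealSheafData.ker_fst_of_isClosedImmersion]

theorem sqZero_of_isPullback {W V W' V' : Scheme.{u}} [IsAffine V] [IsAffine V'] {i : W ⟶ V} {c : V' ⟶ V}
    {fst : W' ⟶ W} {snd : W' ⟶ V'} (h : IsPullback fst snd i c) (hi : IsClosedImmersion i) (hsq : sqZero i) :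
    sqZero snd := by
  change snd.ker * snd.ker = ⊥
  refine Scheme.IdealSheafData.ext_of_isAffine ?_
  rw [ker_snd_of_isPullback h, Scheme.IdealSheafData.ideal_mul, Pi.mul_apply, FpqcDescent.ideal_comap_top,
    ← Ideal.map_mul]
  have e : (i.ker * i.ker).ideal ⟨⊤, isAffineOpen_top V⟩ = ⊥ := by rw [hsq]; rfl
  rw [Scheme.IdealSheafData.ideal_mul, Pi.mul_apply] at e
  rw [e, Ideal.map_bot]
  rfl

/-- Square-zero kernels of closed immersions descend along flat families of affine schemes. -/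
theorem sqZero_of_flat_cover {W V : Scheme.{u}} (i : W ⟶ V) [IsAffine V] [IsClosedImmersion i]
    (h : ∀ v : V, ∃ (D W' : Scheme.{u}) (d : D ⟶ V) (fst : W' ⟶ W) (snd : W' ⟶ D),
      IsAffine D ∧ Flat d ∧ v ∈ Set.range d ∧ IsPullback fst snd i d ∧ sqZero snd) : sqZero i := by
  choose D W' d fst snd hD hd hv hsq h0 using h
  change i.ker * i.ker = ⊥
  refine Scheme.IdealSheafData.ext_of_isAffine ?_
  rw [Scheme.IdealSheafData.ideal_mul, Pi.mul_apply, Scheme.IdealSheafData.ideal_bot, Pi.bot_apply, eq_bot_iff]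
  refine FpqcDescent.ideal_le_of_flat_family (fun v => (d v).appTop.hom) (fun v => ?_) (fun m hm => ?_) fun v => ?_
  · have := hD v; have := hd v
    rw [Scheme.Hom.appTop, Scheme.Hom.app_eq_appLE]
    exact (d v).flat_appLE (isAffineOpen_top V) (isAffineOpen_top (D v)) _
  · let x : V := V.isoSpec.inv ⟨m, hm.isPrime⟩
    obtain ⟨z, hz⟩ := hv x
    have := hD x
    refine ⟨x, ((D x).isoSpec.hom z).asIdeal, inferInstance, ?_⟩
    have e : (Spec.map (d x).appTop) ((D x).isoSpec.hom z) = ⟨m, hm.isPrime⟩ := by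
      rw [← Scheme.Hom.comp_apply, Scheme.isoSpec_hom_naturality, Scheme.Hom.comp_apply, hz]
      exact congr($(V.isoSpec.inv_hom_id) _)
    exact congrArg PrimeSpectrum.asIdeal e
  · have := hD v
    rw [Ideal.map_bot, Ideal.map_mul, ← FpqcDescent.ideal_comap_top, ← ker_snd_of_isPullback (hsq v)]
    have e : ((snd v).ker * (snd v).ker).ideal ⟨⊤, isAffineOpen_top (D v)⟩ = ⊥ := by rw [h0 v]; rfl
    rw [Scheme.IdealSheafData.ideal_mul, Pi.mul_apply] at e
    rw [e]

theorem isFOThickMor_bc {T T' Q Q' : Sp S} (hT' : IsAlgSpace T') {j : T ⟶ T'} (hj : IsFOThickMor j)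
    {q : Q ⟶ T} {k : Q ⟶ Q'} {g : Q' ⟶ T'} (sq : IsPullback q k j g) : IsFOThickMor k := by
  refine ⟨repWith_of_isPullback sq hj.1, fun V W b fst snd hV hb sqW => ?_⟩
  have sqV : IsPullback (fst ≫ q) ((yon S).map snd) j (b ≫ g) := sqW.paste_horiz sq
  have : IsClosedImmersion snd.left := (hj.1.2 _ _ _ sqV).1
  obtain ⟨U, p, hp, hps⟩ := hT'.atlas
  obtain ⟨K, r, e, sqK⟩ := exists_sq hp.1 (b ≫ g)
  obtain ⟨r, rfl⟩ := (yon S).map_surjective r
  have : Etale e.left := hp.2 _ _ _ sqK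
  have : Surjective e.left := hps.2 _ _ _ sqK
  refine sqZero_of_flat_cover snd.left fun v => ?_
  obtain ⟨κ, rfl⟩ := e.left.surjective v
  obtain ⟨O, hO, hOκ, -⟩ := exists_isAffineOpen_mem_and_subset (show r.left κ ∈ (⊤ : U.left.Opens) from trivial)
  obtain ⟨A, hA, hAκ, hAO⟩ := exists_isAffineOpen_mem_and_subset (show κ ∈ r.left ⁻¹ᵁ O from hOκ)
  have : IsAffine (openSub U O).left := hO
  have : IsAffine (openSub K A).left := hA
  have hbO : RepWith @Etale ((yon S).map (openSubι U O) ≫ p) :=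
    repWith_comp ((repWith_yon_map_iff _ _).2 (inferInstanceAs (Etale O.ι))) hp
  obtain ⟨WO, fO, sO, sqO⟩ := exists_sq hj.1.1 ((yon S).map (openSubι U O) ≫ p)
  obtain ⟨c, hc⟩ := exists_openSub_lift O (openSubι K A ≫ r) fun t => hAO ((range_openSubι K A).le ⟨t, rfl⟩)
  have hWO : IsFOThickMor ((yon S).map sO) := isFOThickMor_of_etale_chart hj hbO sqO
  obtain ⟨WA, fA, sA, sqA⟩ := exists_sq hWO.1.1 ((yon S).map c)
  obtain ⟨fA, rfl⟩ := (yon S).map_surjective fA
  have sqAV : IsPullback ((yon S).map fA ≫ fO) ((yon S).map sA) j ((yon S).map (openSubι K A ≫ e) ≫ b ≫ g) := by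
    have e' : (yon S).map c ≫ (yon S).map (openSubι U O) ≫ p = (yon S).map (openSubι K A ≫ e) ≫ b ≫ g := by
      rw [← Functor.map_comp_assoc, hc, Functor.map_comp_assoc, sqK.w, ← Functor.map_comp_assoc]
    rw [← e']
    exact sqA.paste_horiz sqO
  let l := pre (sqV.lift ((yon S).map fA ≫ fO) ((yon S).map (sA ≫ openSubι K A ≫ e)) (by
    rw [sqAV.w, ← Functor.map_comp_assoc]))
  have sqW' : IsPullback ((yon S).map l) ((yon S).map sA) ((yon S).map snd) ((yon S).map (openSubι K A ≫ e)) :=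
    IsPullback.of_right (by simpa [l] using sqAV) (by simp [l]) sqV
  exact ⟨_, _, (openSubι K A ≫ e).left, l.left, sA.left, hA, inferInstanceAs (Flat (A.ι ≫ e.left)),
    ⟨⟨κ, hAκ⟩, rfl⟩, isPullback_left sqW', sqZero_of_isPullback (isPullback_left sqA) (hWO.1.2 (𝟙 _) (𝟙 _) sO (IsPullback.of_horiz_isIso ⟨by simp⟩)).1
      (AffLocT.yon_map hO hWO.2)⟩

end Groth.Agent.AlgSpFormal
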