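import Groth.Agent.AlgSpFormal.Thick
import Groth.Agent.AlgSpLoc.Basic
import Groth.Agent.FpqcDescent.IdealComap

/-!
First order thickenings of schemes as first order thickenings of algebraic spaces; universal thickenings.
-/

set_option autoImplicit false
set_option backward.isDefEq.respectTransparency false

universe u

open CategoryTheory CategoryTheory.Limits AlgebraicGeometry Opposite

namespace Groth.Agent.AlgSpFormal

open _root_.AlgSp Groth.Agent.AlgSpc Groth.Agent.AlgSpLoc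

variable {S : Scheme.{u}}

/-- A first order thickening with affine target is one in the sense of algebraic spaces. -/
theorem isFOThickMor_yon_map {W V : Over S} (i : W ⟶ V) [IsAffine V.left] (hi : thick i.left) (hsq : sqZero i.left) :
    IsFOThickMor ((yon S).map i) := by
  refine ⟨(isThickMor_yon_map_iff i).2 hi, fun V' W' b fst snd hV' hb sq => ?_⟩
  obtain ⟨c, rfl⟩ := (yon S).map_surjective b
  obtain ⟨fst, rfl⟩ := (yon S).map_surjective fst
  have h := (isPullback_left sq).flip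
  have : IsClosedImmersion i.left := hi.1
  change snd.left.ker * snd.left.ker = ⊥
  rw [show snd.left = h.isoPullback.hom ≫ pullback.fst c.left i.left from (h.isoPullback_hom_fst).symm,
    Scheme.Hom.ker_comp_of_isIso, Scheme.IdealSheafData.ker_fst_of_isClosedImmersion]
  refine Scheme.IdealSheafData.ext_of_isAffine ?_
  rw [Scheme.IdealSheafData.ideal_mul, Pi.mul_apply, FpqcDescent.ideal_comap_top, ← Ideal.map_mul]
  have e : (i.left.ker * i.left.ker).ideal ⟨⊤, isAffineOpen_top V.left⟩ = ⊥ := by rw [hsq]; rfl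
  rw [Scheme.IdealSheafData.ideal_mul, Pi.mul_apply] at e
  rw [e, Ideal.map_bot]
  rfl

theorem isFOThickMor_of_etale_chart {T T' : Sp S} {j : T ⟶ T'} (hj : IsFOThickMor j) {V W : Over S}
    {b : (yon S).obj V ⟶ T'} (hb : RepWith @Etale b) {fst : (yon S).obj W ⟶ T} {snd : W ⟶ V}
    (sq : IsPullback fst ((yon S).map snd) j b) : IsFOThickMor ((yon S).map snd) :=
  ⟨repWith_of_isPullback sq hj.1, fun V' W' c fst' snd' hV' hc sq' =>
    hj.2 (c ≫ b) (fst' ≫ fst) snd' hV' (repWith_comp hc hb) (sq'.paste_horiz sq)⟩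

theorem isUnivFOThick_comp_formallyEtale {Z Z' Y X : Sp S} {hZ : Z ⟶ Y} {g : Y ⟶ X} {i : Z ⟶ Z'} {h' : Z' ⟶ Y}
    (HU : IsUnivFOThick hZ i h') (hg : IsFormallyEtaleMor g) : IsUnivFOThick (hZ ≫ g) i (h' ≫ g) := by
  obtain ⟨hi, hw, hU⟩ := HU
  refine ⟨hi, by rw [reassoc_of% hw], fun T T' hT hT' j a b hj w => ?_⟩
  obtain ⟨c, ⟨hc₁, hc₂⟩, hc⟩ := space_lift_existsUnique hT' hg hj (a ≫ hZ) b (by rw [Category.assoc]; exact w.symm)
  obtain ⟨a', ⟨h₁, h₂⟩, hu⟩ := hU hT hT' j a c hj hc₁
  refine ⟨a', ⟨h₁, by rw [reassoc_of% h₂]; exact hc₂⟩, fun l ⟨l₁, l₂⟩ => hu l ⟨l₁, hc _ ⟨?_, ?_⟩⟩⟩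
  · rw [reassoc_of% l₁, hw]
  · rw [Category.assoc]; exact l₂

theorem isUnivFOThick_iff_affine {Z Z' X : Sp S} (hZ : IsAlgSpace Z) {h : Z ⟶ X} {i : Z ⟶ Z'} {h' : Z' ⟶ X}
    (hi : IsFOThickMor i) (w : i ≫ h' = h) :
    IsUnivFOThick h i h' ↔
      ∀ (T T' : Over S) (j : T ⟶ T'), IsAffine T'.left → IsFOThickMor ((yon S).map j) →
        ∀ (a : (yon S).obj T ⟶ Z) (b : (yon S).obj T' ⟶ X), (yon S).map j ≫ b = a ≫ h →
          ∃! a' : (yon S).obj T' ⟶ Z', (yon S).map j ≫ a' = a ≫ i ∧ a' ≫ h' = b := by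
  refine ⟨fun H T T' j _ hj a b w => H.2.2 (IsAlgSpace.yon_obj T) (IsAlgSpace.yon_obj T') _ a b hj w, fun H => ?_⟩
  refine ⟨hi, w, fun T T' hT hT' j a b hj wj => ?_⟩
  -- lifts over any etale chart of `T'`
  have chart : ∀ ⦃V : Over S⦄ (c : (yon S).obj V ⟶ T'), RepWith @Etale c →
      ∃! m : (yon S).obj V ⟶ Z', (∀ ⦃Q : Over S⦄ (x : (yon S).obj Q ⟶ T) (y : Q ⟶ V),
        x ≫ j = (yon S).map y ≫ c → (yon S).map y ≫ m = x ≫ a ≫ i) ∧ m ≫ h' = c ≫ b := by
    intro V c hc
    choose O hO hzO using fun z : ↥V.left =>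
      exists_isAffineOpen_mem_and_subset (show z ∈ (⊤ : V.left.Opens) from trivial)
    have loc : ∀ (D : Over S) (d : D ⟶ V), IsAffine D.left → IsOpenImmersion d.left →
        ∃! m : (yon S).obj D ⟶ Z', (∀ ⦃Q : Over S⦄ (x : (yon S).obj Q ⟶ T) (y : Q ⟶ D),
          x ≫ j = (yon S).map y ≫ (yon S).map d ≫ c → (yon S).map y ≫ m = x ≫ a ≫ i) ∧
          m ≫ h' = (yon S).map d ≫ c ≫ b := by
      intro D d hD hd
      have hdc : RepWith @Etale ((yon S).map d ≫ c) :=
        repWith_comp ((repWith_yon_map_iff _ _).2 (inferInstanceAs (Etale d.left))) hc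
      obtain ⟨W, fst, snd, sqW⟩ := exists_sq hj.1.1 ((yon S).map d ≫ c)
      obtain ⟨m, ⟨hm₁, hm₂⟩, hm⟩ := H W D snd hD (isFOThickMor_of_etale_chart hj hdc sqW) (fst ≫ a)
        ((yon S).map d ≫ c ≫ b) (by
          have := (reassoc_of% sqW.w) b
          rw [Category.assoc, ← wj, this])
      refine ⟨m, ⟨fun Q x y hxy => ?_, hm₂⟩, fun m' ⟨h₁, h₂⟩ => hm m' ⟨?_, h₂⟩⟩
      · rw [← reassoc_of% (sqW.lift_snd x ((yon S).map y) hxy), hm₁, Category.assoc,
          reassoc_of% (sqW.lift_fst x ((yon S).map y) hxy)]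
      · rw [h₁ fst snd sqW.w, Category.assoc]
    have locz := fun z => loc (openSub V (O z)) (openSubι V (O z)) (hO z) inferInstance
    choose m hm hmu using fun z => (locz z)
    obtain ⟨n, hn, hnu⟩ := existsUnique_glue (fun z => openSub V (O z)) (fun z => openSubι V (O z))
      (fun z => inferInstance) (fun z => ⟨z, (range_openSubι V (O z)).ge (hzO z).1⟩) m fun k k' Q x y hxy => by
        choose P hP hqP using fun q : ↥Q.left =>
          exists_isAffineOpen_mem_and_subset
            (show q ∈ (⊤ : Q.left.Opens) from trivial)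
        let O₂ := O k ⊓ O k'
        obtain ⟨r, hr⟩ := exists_openSub_lift (O k) (openSubι V O₂) fun t => ((range_openSubι V O₂).le ⟨t, rfl⟩).1
        obtain ⟨r', hr'⟩ := exists_openSub_lift (O k') (openSubι V O₂) fun t => ((range_openSubι V O₂).le ⟨t, rfl⟩).2
        obtain ⟨q, hq⟩ := exists_openSub_lift O₂ (x ≫ openSubι V (O k)) fun t =>
          ⟨(range_openSubι V (O k)).le ⟨_, rfl⟩, by rw [hxy]; exact (range_openSubι V (O k')).le ⟨_, rfl⟩⟩
        have : ∀ O' : V.left.Opens, Mono (openSubι V O') := fun O' => by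
          have : Mono ((Over.forget S).map (openSubι V O')) := inferInstanceAs (Mono O'.ι)
          exact (Over.forget S).mono_of_mono_map this
        have hx : x = q ≫ r := by rw [← cancel_mono (openSubι V (O k)), Category.assoc, hr, hq]
        have hy : y = q ≫ r' := by rw [← cancel_mono (openSubι V (O k')), Category.assoc, hr', hq, hxy]
        have key : (yon S).map r ≫ m k = (yon S).map r' ≫ m k' := by
          choose A hA hzA using fun z : ↥(openSub V O₂).left =>
            exists_isAffineOpen_mem_and_subset (show z ∈ (⊤ : (openSub V O₂).left.Opens) from trivial)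
          refine hom_ext_of_openCover (fun z => openSub (openSub V O₂) (A z)) (fun z => openSubι (openSub V O₂) (A z))
            (fun z => inferInstance) (fun z => ⟨z, (range_openSubι (openSub V O₂) (A z)).ge (hzA z).1⟩) fun z => ?_
          obtain ⟨_, -, hu⟩ := loc (openSub (openSub V O₂) (A z)) (openSubι (openSub V O₂) (A z) ≫ openSubι V O₂)
            (hA z) (inferInstanceAs (IsOpenImmersion ((A z).ι ≫ O₂.ι)))
          refine (hu _ ⟨fun Q' x' y' w' => ?_, ?_⟩).trans (hu _ ⟨fun Q' x' y' w' => ?_, ?_⟩).symm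
          · rw [← Functor.map_comp_assoc, ← Functor.map_comp_assoc]
            refine (hm k).1 x' _ ?_
            rw [w']; simp only [← Functor.map_comp_assoc, Category.assoc, hr]
          · rw [Category.assoc, Category.assoc, (hm k).2]; simp only [← Functor.map_comp_assoc, Category.assoc, hr]
          · rw [← Functor.map_comp_assoc, ← Functor.map_comp_assoc]
            refine (hm k').1 x' _ ?_
            rw [w']; simp only [← Functor.map_comp_assoc, Category.assoc, hr']
          · rw [Category.assoc, Category.assoc, (hm k').2]; simp only [← Functor.map_comp_assoc, Category.assoc, hr']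
        rw [hx, hy, Functor.map_comp_assoc, Functor.map_comp_assoc, key]
    refine ⟨n, ⟨fun Q x y hxy => ?_, ?_⟩, fun n' ⟨h₁, h₂⟩ => hnu n' fun z => hmu z _ ⟨fun Q x y hxy => ?_, ?_⟩⟩
    · refine hom_ext_of_openCover (fun z => openSub Q (y.left ⁻¹ᵁ O z)) (fun z => openSubι Q (y.left ⁻¹ᵁ O z))
        (fun z => inferInstance)
        (fun s => ⟨y.left s, (range_openSubι Q (y.left ⁻¹ᵁ O (y.left s))).ge (hzO (y.left s)).1⟩) fun z => ?_
      obtain ⟨r, hr⟩ := exists_openSub_lift (O z) (openSubι Q (y.left ⁻¹ᵁ O z) ≫ y) fun t =>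
        (range_openSubι Q (y.left ⁻¹ᵁ O z)).le ⟨t, rfl⟩
      rw [← Functor.map_comp_assoc, ← hr, Functor.map_comp_assoc, hn, ← Category.assoc]
      refine (hm z).1 _ r ?_
      rw [Category.assoc, hxy, ← Functor.map_comp_assoc, ← hr, Functor.map_comp_assoc]
    · refine hom_ext_of_openCover (fun z => openSub V (O z)) (fun z => openSubι V (O z))
        (fun z => inferInstance) (fun z => ⟨z, (range_openSubι V (O z)).ge (hzO z).1⟩) fun z => ?_
      rw [reassoc_of% (hn z), (hm z).2]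
    · rw [← Functor.map_comp_assoc]
      exact h₁ x _ (by rw [hxy, Functor.map_comp_assoc])
    · rw [Category.assoc, h₂]
  obtain ⟨U, p, hp, hps⟩ := hT'.atlas
  obtain ⟨n, ⟨hn₁, hn₂⟩, hnu⟩ := chart p hp
  obtain ⟨l, hl⟩ := exists_desc_of_atlas hp hps n fun Q x y hxy => by
    obtain ⟨K, k₁, k₂, sqK⟩ := exists_sq hp.1 p
    obtain ⟨k₁, rfl⟩ := (yon S).map_surjective k₁
    have hb₂ : RepWith @Etale ((yon S).map k₂ ≫ p) := repWith_comp (repWith_of_isPullback sqK hp) hp
    obtain ⟨_, -, hu⟩ := chart _ hb₂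
    have key : (yon S).map k₁ ≫ n = (yon S).map k₂ ≫ n := by
      refine (hu _ ⟨fun Q' x' y' w' => ?_, ?_⟩).trans (hu _ ⟨fun Q' x' y' w' => ?_, ?_⟩).symm
      · rw [← Functor.map_comp_assoc]
        exact hn₁ x' _ (by rw [w', Functor.map_comp_assoc, sqK.w])
      · rw [Category.assoc, Category.assoc, hn₂, reassoc_of% sqK.w]
      · rw [← Functor.map_comp_assoc]
        exact hn₁ x' _ (by rw [w', Functor.map_comp_assoc])
      · rw [Category.assoc, Category.assoc, hn₂]
    rw [← reassoc_of% (sqK.lift_snd ((yon S).map x) ((yon S).map y) hxy), ← key,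
      reassoc_of% (sqK.lift_fst ((yon S).map x) ((yon S).map y) hxy)]
  have := epi_of_repWith hp hps
  refine ⟨l, ⟨?_, (cancel_epi p).1 (by rw [reassoc_of% hl, hn₂])⟩, fun l' ⟨h₁, h₂⟩ => ?_⟩
  · obtain ⟨W, fst, snd, sqW⟩ := exists_sq hj.1.1 p
    have : Epi fst := epi_of_repWith (repWith_of_isPullback sqW.flip hp) (repWith_of_isPullback sqW.flip hps)
    rw [← cancel_epi fst, ← Category.assoc, sqW.w, Category.assoc, hl, hn₁ fst snd sqW.w]
  · refine (cancel_epi p).1 ((hnu _ ⟨fun Q x y hxy => ?_, by rw [Category.assoc, h₂]⟩).trans hl.symm)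
    rw [← reassoc_of% hxy, h₁]

end Groth.Agent.AlgSpFormal
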