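import Groth.Agent.AlgSpFormal.SmoothCharts
import Groth.Agent.AlgSpLoc.FpqcCriterion
import Groth.Agent.SmoothDesc.FFBase

/-!
Formal smoothness of morphisms of algebraic spaces is fpqc local on the base.
-/

set_option autoImplicit false
set_option backward.isDefEq.respectTransparency false
set_option linter.style.haveILetI false

universe u

open CategoryTheory CategoryTheory.Limits AlgebraicGeometry Opposite

namespace Groth.Agent.AlgSpFormal

open _root_.AlgSp Groth.Agent.AlgSpc Groth.Agent.AlgSpLoc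

variable {S : Scheme.{u}}

/-- Formal smoothness is tested on affine schemes over the target. -/
theorem smooth_iff_affine {X Y : Sp S} (hX : IsAlgSpace X) (hY : IsAlgSpace Y) (f : X ⟶ Y) :
    IsFormallySmoothMor f ↔ ∀ (Z : Over S), IsAffine Z.left → ∀ (g : (yon S).obj Z ⟶ Y) (W : Sp S)
      (fst : W ⟶ X) (snd : W ⟶ (yon S).obj Z), IsAlgSpace W → IsPullback fst snd f g →
      IsFormallySmoothMor snd := by
  refine ⟨fun hf Z _ g W fst snd _ sqW => smooth_bc sqW hf, fun h sq => ?_⟩
  have sqW := IsPullback.of_hasPullback f sq.bot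
  have hs := h sq.ptT' (inferInstanceAs (IsAffine (Spec (CommRingCat.of sq.A)))) sq.bot _ _ _
    (isAlgSpace_of_isPullback hX hY (IsAlgSpace.yon_obj _) sqW) sqW
  obtain ⟨l, h₁, h₂⟩ := hs (withMaps sq (pullback.snd f sq.bot)
    (pullback.lift sq.top ((yon S).map sq.j) sq.comm) (𝟙 _) (by rw [pullback.lift_snd, Category.comp_id]))
  refine ⟨l ≫ pullback.fst f sq.bot, ?_, ?_⟩
  · rw [← Category.assoc, h₁]; exact pullback.lift_fst _ _ _
  · rw [Category.assoc, pullback.condition, ← Category.assoc, h₂]; exact Category.id_comp _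

/-- A finite disjoint union of formally smooth morphisms is formally smooth. -/
theorem smooth_of_coproduct {ι : Type u} [Finite ι] (Xi Yi : ι → Sp S) (fi : ∀ i, Xi i ⟶ Yi i)
    (cX : Cofan Xi) (cY : Cofan Yi) (hcX : IsColimit cX) (hcY : IsColimit cY) (m : cX.pt ⟶ cY.pt)
    (hXi : ∀ i, IsAlgSpace (Xi i)) (hYi : ∀ i, IsAlgSpace (Yi i))
    (hm : ∀ i, cX.inj i ≫ m = fi i ≫ cY.inj i) (hf : ∀ i, IsFormallySmoothMor (fi i)) :
    IsFormallySmoothMor m := by
  choose U V a b h ha has hb hbs w using fun i => exists_chart (hXi i) (hYi i) (fi i)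
  have hh : ∀ i, MoreMor.IsFormallySmoothHom (h i).left := fun i =>
    isFormallySmoothHom_left (smooth_chart_left (ha i) (hb i) (w i) (hf i))
  let UU : Over S := Over.mk (Sigma.desc fun i => (U i).hom)
  let VV : Over S := Over.mk (Sigma.desc fun i => (V i).hom)
  let jU : ∀ i, U i ⟶ UU := fun i => Over.homMk (Sigma.ι (fun i => (U i).left) i) (Sigma.ι_desc _ _)
  let jV : ∀ i, V i ⟶ VV := fun i => Over.homMk (Sigma.ι (fun i => (V i).left) i) (Sigma.ι_desc _ _)
  obtain ⟨hU⟩ := nonempty_isColimit_yon_sigma U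
  obtain ⟨hV⟩ := nonempty_isColimit_yon_sigma V
  let A : (yon S).obj UU ⟶ cX.pt := Cofan.IsColimit.desc hU fun i => a i ≫ cX.inj i
  let B : (yon S).obj VV ⟶ cY.pt := Cofan.IsColimit.desc hV fun i => b i ≫ cY.inj i
  let HH : UU ⟶ VV := Over.homMk (Sigma.desc fun i => (h i).left ≫ (jV i).left) (by
    apply Sigma.hom_ext; intro i; simp [UU, VV, jV])
  have hjH : ∀ i, jU i ≫ HH = h i ≫ jV i := fun i => Over.OverMorphism.ext (Sigma.ι_desc _ _)
  have hjA : ∀ i, (yon S).map (jU i) ≫ A = a i ≫ cX.inj i := fun i => Cofan.IsColimit.fac hU _ i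
  have hjB : ∀ i, (yon S).map (jV i) ≫ B = b i ≫ cY.inj i := fun i => Cofan.IsColimit.fac hV _ i
  haveI : ∀ i, Mono (cX.inj i) := fun i => FinitaryExtensive.mono_ι hcX ⟨i⟩
  haveI : ∀ i, Mono (cY.inj i) := fun i => FinitaryExtensive.mono_ι hcY ⟨i⟩
  have hiX : ∀ i, RepWith @Etale (cX.inj i) := fun i =>
    repWith_mono (P := @IsOpenImmersion ⊓ @IsClosedImmersion) (Q := @Etale)
      (fun _ _ g hg => haveI : IsOpenImmersion g := hg.1; inferInstance) (repWith_inj hcX i)
  have hiY : ∀ i, RepWith @Etale (cY.inj i) := fun i =>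
    repWith_mono (P := @IsOpenImmersion ⊓ @IsClosedImmersion) (Q := @Etale)
      (fun _ _ g hg => haveI : IsOpenImmersion g := hg.1; inferInstance) (repWith_inj hcY i)
  have hcovU : ∀ z : ↥UU.left, ∃ i, z ∈ Set.range (jU i).left := fun z => by
    obtain ⟨i, y, hy⟩ := (sigmaOpenCover fun i => (U i).left).exists_eq z
    exact ⟨i, y, hy⟩
  have hcovV : ∀ z : ↥VV.left, ∃ i, z ∈ Set.range (jV i).left := fun z => by
    obtain ⟨i, y, hy⟩ := (sigmaOpenCover fun i => (V i).left).exists_eq z
    exact ⟨i, y, hy⟩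
  have hjUo : ∀ i, IsOpenImmersion (jU i).left := fun i =>
    (inferInstance : IsOpenImmersion (Sigma.ι (fun i => (U i).left) i))
  have hjVo : ∀ i, IsOpenImmersion (jV i).left := fun i =>
    (inferInstance : IsOpenImmersion (Sigma.ι (fun i => (V i).left) i))
  have hA : RepWith @Etale A := repWith_of_sigma jU hjUo hcovU A fun i => by
    rw [hjA]; exact repWith_comp (ha i) (hiX i)
  have hB : RepWith @Etale B := repWith_of_sigma jV hjVo hcovV B fun i => by
    rw [hjB]; exact repWith_comp (hb i) (hiY i)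
  have hAs : RepWith @Surjective A := (repWith_surjective_iff hA.1).2 fun x => by
    obtain ⟨i, y, rfl⟩ := exists_points_inj hcX x
    obtain ⟨z, rfl⟩ := surjective_ofPt (has i) y
    refine ⟨Points.ofScheme UU ((jU i).left z), ?_⟩
    rw [← Points.ofPt_eq_map_ofScheme, ← ofPt_comp, hjA, Points.map_ofPt]
  refine smooth_of_chart hA hAs hB ?_ (SmoothLift.isFormallySmoothHom_of_locally HH.left fun z => ?_)
  · refine Cofan.IsColimit.hom_ext hU _ _ fun i => ?_
    change (yon S).map (jU i) ≫ A ≫ m = (yon S).map (jU i) ≫ (yon S).map HH ≫ B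
    rw [reassoc_of% hjA, hm, reassoc_of% w, ← Functor.map_comp_assoc, hjH, Functor.map_comp_assoc, hjB]
  · obtain ⟨i, hi⟩ := hcovU z
    haveI := hjUo i
    haveI := hjVo i
    refine ⟨(jU i).left.opensRange, hi, ?_⟩
    have e : (jU i).left.opensRange.ι ≫ HH.left =
        (jU i).left.isoOpensRange.inv ≫ (h i).left ≫ (jV i).left := by
      rw [← Over.comp_left, ← hjH, Over.comp_left, Scheme.Hom.isoOpensRange_inv_comp_assoc]
    rw [e]
    exact FlatMorLib.isFormallySmoothHom_comp (SmoothDesc.isFormallySmoothHom_of_isOpenImmersion _)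
      (FlatMorLib.isFormallySmoothHom_comp (hh i) (SmoothDesc.isFormallySmoothHom_of_isOpenImmersion _))

/-- Formal smoothness descends along faithfully flat morphisms of affine schemes. -/
theorem smooth_of_ff {Z Z' : Over S} (c : Z' ⟶ Z) [IsAffine Z.left] [IsAffine Z'.left] [Surjective c.left]
    [Flat c.left] {X X' : Sp S} (f : X ⟶ (yon S).obj Z) (fst : X' ⟶ X) (f' : X' ⟶ (yon S).obj Z')
    (hX : IsAlgSpace X) (sq : IsPullback fst f' f ((yon S).map c)) (hf' : IsFormallySmoothMor f') :
    IsFormallySmoothMor f := by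
  obtain ⟨U, p, hp, hps⟩ := hX.atlas
  let k : U ⟶ Z := pre (p ≫ f)
  have hk : (yon S).map k = p ≫ f := map_pre _
  have sqU : IsPullback ((yon S).map (pullback.fst k c)) ((yon S).map (pullback.snd k c))
      (p ≫ f) ((yon S).map c) := by
    rw [← hk]; exact (IsPullback.of_hasPullback k c).map (yon S)
  have w : ((yon S).map (pullback.fst k c) ≫ p) ≫ f = (yon S).map (pullback.snd k c) ≫ (yon S).map c := by
    rw [Category.assoc]; exact sqU.w
  let p' := sq.lift _ _ w
  have hp2 : p' ≫ f' = (yon S).map (pullback.snd k c) := sq.lift_snd _ _ _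
  have sqp : IsPullback ((yon S).map (pullback.fst k c)) p' p fst := by
    refine IsPullback.of_bot ?_ (sq.lift_fst _ _ w).symm sq
    rw [hp2]; exact sqU
  have hU' : IsFormallySmoothMor ((yon S).map (pullback.snd k c)) := by
    rw [← hp2]
    exact smooth_comp (smooth_of_etale (etale_of_repWith_etale (repWith_of_isPullback sqp hp))) hf'
  have hk' : MoreMor.IsFormallySmoothHom k.left :=
    SmoothDesc.isFormallySmoothHom_of_ff (Z := Z.left) (Z' := Z'.left) (c := c.left)
      (show IsPullback (pullback.fst k c).left (pullback.snd k c).left k.left c.left from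
        (IsPullback.of_hasPullback k c).map (Over.forget S))
      (isFormallySmoothHom_left hU')
  exact smooth_of_chart hp hps
    (b := 𝟙 ((yon S).obj Z)) (by
      rw [← CategoryTheory.Functor.map_id]
      exact (repWith_yon_map_iff _ _).2 (inferInstanceAs (Etale (𝟙 Z.left))))
    (by rw [hk, Category.comp_id]) hk'

theorem isLocalOnBase_smooth : IsLocalOnBase (IsFpqcCover (S := S)) IsFormallySmoothMor :=
  isLocalOnBase_fpqc_of_criteria _
    (fun _ _ Xi Yi fi cX cY hcX hcY m hXi hYi _ _ hm hf => smooth_of_coproduct Xi Yi fi cX cY hcX hcY m hXi hYi hm hf)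
    (fun _ _ hX hY f => smooth_iff_affine hX hY f)
    (fun _ _ c _ _ _ _ _ _ f fst f' hX _ sq hf' => smooth_of_ff c f fst f' hX sq hf')

end Groth.Agent.AlgSpFormal
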