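import Groth.Agent.AlgSpFormal.FOThick
import Groth.Agent.AlgSpFormal.FOBaseChange
import Groth.Agent.S1432

/-!
The first order infinitesimal neighbourhood of a closed subspace is a universal first order thickening.
-/

set_option autoImplicit false
set_option backward.isDefEq.respectTransparency false

universe u

open CategoryTheory CategoryTheory.Limits AlgebraicGeometry
open AlgSp

namespace Groth.Agent.AlgSpFormal

open _root_.AlgSp Groth.Agent.AlgSpc Groth.Agent.AlgSpLoc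

variable {S : Scheme.{u}}

theorem ker_ideal_top {W V : Scheme.{u}} [IsAffine V] (i : W ⟶ V) [QuasiCompact i] :
    i.ker.ideal ⟨⊤, isAffineOpen_top V⟩ = RingHom.ker i.appTop.hom :=
  Scheme.Hom.ker_apply i ⟨⊤, isAffineOpen_top V⟩

theorem sqZero_iff {W V : Scheme.{u}} [IsAffine V] (i : W ⟶ V) [QuasiCompact i] :
    sqZero i ↔ ∀ x y, i.appTop x = 0 → i.appTop y = 0 → x * y = 0 := by
  constructor
  · intro h x y hx hy
    have e : (i.ker * i.ker).ideal ⟨⊤, isAffineOpen_top V⟩ = ⊥ := by rw [h]; rfl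
    rw [Scheme.IdealSheafData.ideal_mul, Pi.mul_apply, ker_ideal_top] at e
    exact (Ideal.mem_bot).1 (e ▸ Ideal.mul_mem_mul (RingHom.mem_ker.2 hx) (RingHom.mem_ker.2 hy))
  · intro h
    refine Scheme.IdealSheafData.ext_of_isAffine ?_
    rw [Scheme.IdealSheafData.ideal_mul, Pi.mul_apply, ker_ideal_top, Scheme.IdealSheafData.ideal_bot, Pi.bot_apply,
      eq_bot_iff, Ideal.mul_le]
    exact fun x hx y hy => Ideal.mem_bot.2 (h x y hx hy)

theorem ker_sndn_mem_mul {W Wn V : Scheme.{u}} [IsAffine V] (i : W ⟶ V) (i' : Wn ⟶ V) [QuasiCompact i]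
    [QuasiCompact i'] (h : i'.ker = i.ker ^ 2) (x : Γ(V, ⊤)) :
    i'.appTop x = 0 ↔ x ∈ RingHom.ker i.appTop.hom * RingHom.ker i.appTop.hom := by
  rw [← RingHom.mem_ker, ← ker_ideal_top, h, pow_two, Scheme.IdealSheafData.ideal_mul, Pi.mul_apply, ker_ideal_top]

/-- A first order thickening over the base factors through the first order neighbourhood. -/
theorem exists_factor {W Wn V W₀ D : Scheme.{u}} [IsAffine V] [IsAffine D] (i : W ⟶ V) (i' : Wn ⟶ V)
    [IsClosedImmersion i] [IsClosedImmersion i'] (h : i'.ker = i.ker ^ 2) (j : W₀ ⟶ D) [QuasiCompact j]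
    (hj : sqZero j) (d : D ⟶ V) (w : W₀ ⟶ W) (e : w ≫ i = j ≫ d) : ∃ l : D ⟶ Wn, l ≫ i' = d := by
  refine ⟨IsClosedImmersion.lift i' d ?_, IsClosedImmersion.lift_fac _ _ _⟩
  refine Scheme.IdealSheafData.le_of_isAffine ?_
  rw [ker_ideal_top, ker_ideal_top]
  intro x hx
  have hx' := (ker_sndn_mem_mul i i' h x).1 hx
  refine RingHom.mem_ker.2 ?_
  refine Submodule.mul_induction_on hx' (fun a ha b hb => ?_) fun a b ha hb => by rw [map_add, ha, hb, add_zero]
  rw [map_mul]
  refine (sqZero_iff j).1 hj _ _ ?_ ?_ <;>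
  · change (d.appTop ≫ j.appTop) _ = 0
    rw [← Scheme.Hom.comp_appTop, ← e, Scheme.Hom.comp_appTop]
    simp [RingHom.mem_ker.1 ha, RingHom.mem_ker.1 hb]

theorem sqZero_nbhd {W Wn V : Scheme.{u}} [IsAffine V] (i : W ⟶ V) (i' : Wn ⟶ V) (m : W ⟶ Wn)
    [IsClosedImmersion i] [IsClosedImmersion i'] (h : i'.ker = i.ker ^ 2) (hm : m ≫ i' = i) :
    sqZero m := by
  have : IsAffine Wn := isAffine_of_isAffineHom i'
  have : IsClosedImmersion m := by
    have : IsClosedImmersion (m ≫ i') := hm.symm ▸ inferInstance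
    exact IsClosedImmersion.of_comp m i'
  have hs : Function.Surjective i'.appTop :=
    (IsClosedImmersion.isAffine_surjective_of_isAffine (f := i')).2
  refine (sqZero_iff m).2 fun x y hx hy => ?_
  obtain ⟨x, rfl⟩ := hs x
  obtain ⟨y, rfl⟩ := hs y
  rw [← map_mul]
  refine (ker_sndn_mem_mul i i' h _).2 (Ideal.mul_mem_mul ?_ ?_)
  · rw [RingHom.mem_ker, ← hm, Scheme.Hom.comp_appTop]; exact hx
  · rw [RingHom.mem_ker, ← hm, Scheme.Hom.comp_appTop]; exact hy

theorem exists_affine_etale_over {X : Sp S} (hX : IsAlgSpace X) {A : Over S} (g : (yon S).obj A ⟶ X) (t : ↥A.left) :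
    ∃ (V D : Over S) (b : (yon S).obj V ⟶ X) (e : D ⟶ A) (d : D ⟶ V), IsAffine V.left ∧ IsAffine D.left ∧
      RepWith @Etale b ∧ Etale e.left ∧ t ∈ Set.range e.left ∧ (yon S).map d ≫ b = (yon S).map e ≫ g := by
  obtain ⟨U, p, hp, hps⟩ := hX.atlas
  obtain ⟨K, r, e, sqK⟩ := exists_sq hp.1 g
  obtain ⟨r, rfl⟩ := (yon S).map_surjective r
  have : Etale e.left := hp.2 _ _ _ sqK
  have : Surjective e.left := hps.2 _ _ _ sqK
  obtain ⟨κ, rfl⟩ := e.left.surjective t
  obtain ⟨O, hO, hOκ, -⟩ := exists_isAffineOpen_mem_and_subset (show r.left κ ∈ (⊤ : U.left.Opens) from trivial)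
  obtain ⟨A', hA, hAκ, hAO⟩ := exists_isAffineOpen_mem_and_subset (show κ ∈ r.left ⁻¹ᵁ O from hOκ)
  obtain ⟨d, hd⟩ := exists_openSub_lift O (openSubι K A' ≫ r) fun t => hAO ((range_openSubι K A').le ⟨t, rfl⟩)
  refine ⟨openSub U O, openSub K A', (yon S).map (openSubι U O) ≫ p, openSubι K A' ≫ e, d, hO, hA,
    repWith_comp ((repWith_yon_map_iff _ _).2 (inferInstanceAs (Etale O.ι))) hp,
    inferInstanceAs (Etale (A'.ι ≫ e.left)), ⟨⟨κ, hAκ⟩, rfl⟩, ?_⟩
  rw [← Functor.map_comp_assoc, hd, Functor.map_comp_assoc, sqK.w, ← Functor.map_comp_assoc]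

theorem isFOThickMor_nbhd {Z U Z₁ : Sp S} (hU : IsAlgSpace U) {c : Z ⟶ U} {j : Z ⟶ Z₁} {k : Z₁ ⟶ U}
    (hN : IsInfNbhd 1 c j k) : IsFOThickMor j := by
  obtain ⟨hjk, hc, hk, hker⟩ := hN
  haveI : Mono k := mono_of_repWith (fun _ _ e (_ : IsClosedImmersion e) => inferInstance) hk
  have sqj : IsPullback (𝟙 Z) j c k := by
    refine ⟨⟨by rw [Category.id_comp, hjk]⟩, ⟨PullbackCone.IsLimit.mk _ (fun s => s.fst) (fun s => Category.comp_id _)
      (fun s => (cancel_mono k).1 (by rw [Category.assoc, hjk]; exact s.condition)) fun s m h₁ _ => ?_⟩⟩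
    rw [← h₁]; exact (Category.comp_id _).symm
  have hjc : RepWith @IsClosedImmersion j := repWith_of_isPullback sqj hc
  have charts : ∀ ⦃A W' : Over S⦄ (a : (yon S).obj A ⟶ Z₁) (fst' : (yon S).obj W' ⟶ Z) (snd' : W' ⟶ A),
      IsPullback fst' ((yon S).map snd') j a → ∀ t : ↥A.left,
      ∃ (D W₂ : Over S) (e : D ⟶ A) (l : W₂ ⟶ W') (m : W₂ ⟶ D), IsAffine D.left ∧ Etale e.left ∧
        t ∈ Set.range e.left ∧ IsPullback l.left m.left snd'.left e.left ∧ sqZero m.left ∧ Surjective m.left := by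
    intro A W' a fst' snd' sqa t
    obtain ⟨V, D, b, e, d, hV, hD, hb, he, ht, w⟩ := exists_affine_etale_over hU (a ≫ k) t
    obtain ⟨W, fW, sW, sqW⟩ := exists_sq hc.1 b
    obtain ⟨Wn, fn, sn, sqn⟩ := exists_sq hk.1 b
    have hW : IsClosedImmersion sW.left := hc.2 _ _ _ sqW
    have hn : IsClosedImmersion sn.left := hk.2 _ _ _ sqn
    have hkr : sn.left.ker = sW.left.ker ^ 2 := hker b fW sW fn sn hV hb sqW sqn
    let dn : D ⟶ Wn := pre (sqn.lift ((yon S).map e ≫ a) ((yon S).map d) (by rw [Category.assoc]; exact w.symm))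
    let i : W ⟶ Wn := pre (sqn.lift (fW ≫ j) ((yon S).map sW) (by rw [Category.assoc, hjk]; exact sqW.w))
    have hi : i ≫ sn = sW := (yon S).map_injective (by simp [i])
    have sqi : IsPullback fW ((yon S).map i) j fn :=
      IsPullback.of_bot (by rw [← Functor.map_comp, hi, hjk]; exact sqW) (by simp [i]) sqn
    have : IsClosedImmersion i.left := hjc.2 _ _ _ sqi
    have : IsAffine Wn.left := isAffine_of_isAffineHom sn.left
    have hsq : sqZero i.left := sqZero_nbhd sW.left sn.left i.left hkr (by rw [← Over.comp_left, hi])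
    have hsi : Surjective i.left := ⟨fun x => by
      have h1 : (sn.left.ker).support = (sW.left.ker).support := by
        rw [hkr, pow_two]; simp
      have h2 : sn.left x ∈ Set.range sW.left := by
        rw [← IsClosed.closure_eq sW.left.isClosedEmbedding.isClosed_range, ← Scheme.Hom.support_ker, ← h1,
          Scheme.Hom.support_ker, IsClosed.closure_eq sn.left.isClosedEmbedding.isClosed_range]
        exact ⟨x, rfl⟩
      obtain ⟨y, hy⟩ := h2
      exact ⟨y, sn.left.isClosedEmbedding.injective (by rw [← Scheme.Hom.comp_apply, ← Over.comp_left, hi, hy])⟩⟩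
    obtain ⟨W₂, f₂, m, sq₂⟩ := exists_sq ((repWith_yon_map_iff @IsClosedImmersion i).2 ‹_›).1 ((yon S).map dn)
    obtain ⟨f₂, rfl⟩ := (yon S).map_surjective f₂
    have hdn : (yon S).map dn ≫ fn = (yon S).map e ≫ a := by simp [dn]
    have sqD : IsPullback ((yon S).map f₂ ≫ fW) ((yon S).map m) j ((yon S).map e ≫ a) := by
      rw [← hdn]; exact sq₂.paste_horiz sqi
    let l : W₂ ⟶ W' := pre (sqa.lift ((yon S).map f₂ ≫ fW) ((yon S).map (m ≫ e))
      (by rw [sqD.w, Functor.map_comp_assoc]))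
    have sqW' : IsPullback ((yon S).map l) ((yon S).map m) ((yon S).map snd') ((yon S).map e) :=
      IsPullback.of_right (by simpa [l] using sqD) (by simp [l]) sqa
    exact ⟨D, W₂, e, l, m, hD, he, ht, isPullback_left sqW',
      sqZero_of_isPullback (isPullback_left sq₂) ‹_› hsq, MorphismProperty.of_isPullback (isPullback_left sq₂) hsi⟩
  refine ⟨repWith_inf hjc ⟨hjc.1, fun A W' a fst' snd' sqa => ⟨fun t => ?_⟩⟩, fun A W' a fst' snd' hA _ sqa => ?_⟩
  · obtain ⟨D, W₂, e, l, m, -, -, ⟨s, rfl⟩, sq, -, hms⟩ := charts a fst' snd' sqa t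
    obtain ⟨y, rfl⟩ := hms.surj s
    exact ⟨l.left y, by
      change (l.left ≫ snd'.left) y = (m.left ≫ e.left) y
      rw [sq.w]⟩
  · have : IsClosedImmersion snd'.left := hjc.2 _ _ _ sqa
    refine sqZero_of_flat_cover snd'.left fun t => ?_
    obtain ⟨D, W₂, e, l, m, hD, he, ht, sq, h0, -⟩ := charts a fst' snd' sqa t
    exact ⟨_, _, e.left, l.left, m.left, hD, inferInstance, ht, sq, h0⟩

theorem isUnivFOThick_nbhd {Z U Z₁ : Sp S} (hZ : IsAlgSpace Z) (hU : IsAlgSpace U) {c : Z ⟶ U} {j : Z ⟶ Z₁}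
    {k : Z₁ ⟶ U} (hN : IsInfNbhd 1 c j k) : IsUnivFOThick c j k := by
  have hj := isFOThickMor_nbhd hU hN
  obtain ⟨hjk, hc, hk, hker⟩ := hN
  haveI : Mono k := mono_of_repWith (fun _ _ e (_ : IsClosedImmersion e) => inferInstance) hk
  refine (isUnivFOThick_iff_affine hZ hj hjk).2 fun T T' jT hT' hjT a g w => ?_
  obtain ⟨K, fK, κ, sqK⟩ := exists_sq hk.1 g
  have : IsClosedImmersion κ.left := hk.2 _ _ _ sqK
  have hfac : ∀ t : ↥T'.left, ∃ (D : Over S) (e : D ⟶ T') (l : D ⟶ K),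
      Etale e.left ∧ t ∈ Set.range e.left ∧ l ≫ κ = e := by
    intro t
    obtain ⟨V, D, b, e, d, hV, hD, hb, he, ht, wd⟩ := exists_affine_etale_over hU g t
    obtain ⟨W, fW, sW, sqW⟩ := exists_sq hc.1 b
    obtain ⟨Wn, fn, sn, sqn⟩ := exists_sq hk.1 b
    have : IsClosedImmersion sW.left := hc.2 _ _ _ sqW
    have : IsClosedImmersion sn.left := hk.2 _ _ _ sqn
    obtain ⟨W₀, f₀, j₀, sq₀⟩ := exists_sq hjT.1.1 ((yon S).map e)
    obtain ⟨f₀, rfl⟩ := (yon S).map_surjective f₀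
    have h₀ : IsClosedImmersion j₀.left := (hjT.1.2 _ _ _ sq₀).1
    have hsq : sqZero j₀.left := by
      have hT : IsClosedImmersion jT.left := ((isThickMor_yon_map_iff jT).1 hjT.1).1
      exact sqZero_of_isPullback (isPullback_left sq₀) hT (AffLocT.yon_map hT' hjT.2)
    let wW : W₀ ⟶ W := pre (sqW.lift ((yon S).map f₀ ≫ a) ((yon S).map (j₀ ≫ d)) (by
      rw [Category.assoc, ← w, reassoc_of% sq₀.w, Functor.map_comp_assoc, wd]))
    have hwW : wW ≫ sW = j₀ ≫ d := (yon S).map_injective (by simp [wW])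
    obtain ⟨l, hl⟩ := exists_factor sW.left sn.left (hker b fW sW fn sn hV hb sqW sqn) j₀.left hsq d.left wW.left
      (by rw [← Over.comp_left, hwW, Over.comp_left])
    let l' : D ⟶ Wn := Over.homMk l (by rw [← Over.w sn, reassoc_of% hl, Over.w])
    have hl' : l' ≫ sn = d := Over.OverMorphism.ext hl
    refine ⟨D, e, pre (sqK.lift ((yon S).map l' ≫ fn) ((yon S).map e)
      (by rw [Category.assoc, sqn.w, ← Functor.map_comp_assoc, hl', wd])), he, ht, ?_⟩
    exact (yon S).map_injective (by simp)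
  choose D e l he ht hl using hfac
  have : IsAffine K.left := isAffine_of_isAffineHom κ.left
  have : IsIso κ.left := by
    let σ : (∐ fun t => (D t).left) ⟶ T'.left := Sigma.desc fun t => (e t).left
    have : Surjective σ := ⟨fun t => by
      obtain ⟨s, hs⟩ := ht t
      exact ⟨Sigma.ι (fun t => (D t).left) t s, by rw [← Scheme.Hom.comp_apply]; simp [σ, hs]⟩⟩
    have : Flat σ := IsZariskiLocalAtSource.sigmaDesc fun t => inferInstance
    have hinj : Function.Injective σ.appTop := S1432.app_injective_of_flat_of_surjective σ ⊤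
    have hσ : (Sigma.desc fun t => (l t).left) ≫ κ.left = σ := Sigma.hom_ext _ _ fun t => by
      simp [σ, ← Over.comp_left, hl]
    rw [← hσ, Scheme.Hom.comp_appTop] at hinj
    exact IsClosedImmersion.isIso_of_injective_of_isAffine
      (Function.Injective.of_comp (f := (Sigma.desc fun t => (l t).left).appTop) hinj)
  have : IsIso ((Over.forget S).map κ) := ‹IsIso κ.left›
  have : IsIso κ := isIso_of_reflects_iso κ (Over.forget S)
  have hκ : (yon S).map (inv κ) ≫ (yon S).map κ ≫ g = g := by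
    rw [← Functor.map_comp_assoc, IsIso.inv_hom_id, CategoryTheory.Functor.map_id, Category.id_comp]
  refine ⟨(yon S).map (inv κ) ≫ fK, ⟨?_, ?_⟩, fun y ⟨_, hy⟩ => ?_⟩
  · rw [← cancel_mono k, Category.assoc, Category.assoc, sqK.w, hκ, Category.assoc, hjk, w]
  · rw [Category.assoc, sqK.w, hκ]
  · rw [← cancel_mono k, hy, Category.assoc, sqK.w, hκ]

end Groth.Agent.AlgSpFormal
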