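import Groth.Agent.AlgSpFormal.SmoothLocal
import Groth.Agent.AlgSpFormal.Charts
import Groth.Agent.SmoothLift.Main

/-!
Formal smoothness of morphisms of algebraic spaces read on etale charts.
-/

set_option autoImplicit false
set_option backward.isDefEq.respectTransparency false

universe u

open CategoryTheory CategoryTheory.Limits AlgebraicGeometry Opposite

namespace Groth.Agent.AlgSpFormal

open _root_.AlgSp Groth.Agent.AlgSpc Groth.Agent.AlgSpLoc

variable {S : Scheme.{u}} {X Y : Sp S} {f : X ⟶ Y}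

theorem smooth_of_chart {U V : Over S} {a : (yon S).obj U ⟶ X} {b : (yon S).obj V ⟶ Y} {h : U ⟶ V}
    (ha : RepWith @Etale a) (has : RepWith @Surjective a) (hb : RepWith @Etale b)
    (w : a ≫ f = (yon S).map h ≫ b) (hh : MoreMor.IsFormallySmoothHom h.left) : IsFormallySmoothMor f :=
  fun sq => hasLift_of_chart sq ha has hb w hh

theorem smooth_chart_left {U V : Over S} {a : (yon S).obj U ⟶ X} {b : (yon S).obj V ⟶ Y} {h : U ⟶ V}
    (ha : RepWith @Etale a) (hb : RepWith @Etale b) (w : a ≫ f = (yon S).map h ≫ b)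
    (hf : IsFormallySmoothMor f) : IsFormallySmoothMor ((yon S).map h) := by
  refine smooth_cancel (g := b) ?_ (unramified_of_etale (etale_of_repWith_etale hb))
  rw [← w]; exact smooth_comp (smooth_of_etale (etale_of_repWith_etale ha)) hf

theorem smooth_iff_locP (hX : IsAlgSpace X) (hY : IsAlgSpace Y) :
    IsFormallySmoothMor f ↔ LocP @MoreMor.IsFormallySmoothHom f := by
  refine ⟨fun hf U V a b h ha hb w => isFormallySmoothHom_left (smooth_chart_left ha hb w hf), fun hf => ?_⟩
  obtain ⟨U, V, a, b, h, ha, has, hb, -, w⟩ := exists_chart hX hY f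
  exact smooth_of_chart ha has hb w (hf a b h ha hb w)

theorem locP_smooth_iff (hX : IsAlgSpace X) (hY : IsAlgSpace Y) :
    LocP @Smooth f ↔ LocP @LocallyOfFinitePresentation f ∧ IsFormallySmoothMor f := by
  rw [smooth_iff_locP hX hY]
  exact ⟨fun h => ⟨fun _ _ a b k ha hb w => ((SmoothLift.smooth_iff _).1 (h a b k ha hb w)).1,
      fun _ _ a b k ha hb w => ((SmoothLift.smooth_iff _).1 (h a b k ha hb w)).2⟩,
    fun h _ _ a b k ha hb w => (SmoothLift.smooth_iff _).2 ⟨h.1 a b k ha hb w, h.2 a b k ha hb w⟩⟩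

theorem smooth_of_repWith_smooth (hf : RepWith @Smooth f) : IsFormallySmoothMor f :=
  smooth_of_repWith hf fun k (_ : Smooth k) => SmoothLift.isFormallySmoothHom_of_smooth k

end Groth.Agent.AlgSpFormal
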