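import Groth.Agent.AlgSpFormal.Cover
import Groth.Agent.SmoothLift.Univ
import Groth.Agent.SmoothLift.Coaction
import Mathlib.AlgebraicGeometry.Pullbacks

/-!
Formally smooth charts give lifts along every square-zero thickening of an affine scheme.

Etale locally on the thickening the lifts are represented by an algebra; these algebras carry a descent datum
and the section is produced by `SmoothLift.exists_descended_section`.
-/

set_option autoImplicit false
set_option backward.isDefEq.respectTransparency false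
set_option maxHeartbeats 1000000

universe u

open CategoryTheory CategoryTheory.Limits AlgebraicGeometry Opposite TensorProduct

namespace Groth.Agent.AlgSpFormal

open _root_.AlgSp Groth.Agent.AlgSpc Groth.Agent.AlgSpLoc Groth.Agent.SmoothLift

variable {S : Scheme.{u}} {X Y : Sp S} {f : X ⟶ Y} (sq : InfSq f)

theorem specMap_comp_algHom {A B B' : Type u} [CommRing A] [CommRing B] [CommRing B'] [Algebra A B]
    [Algebra A B'] (g : B →ₐ[A] B') :
    Spec.map (CommRingCat.ofHom g.toRingHom) ≫ Spec.map (CommRingCat.ofHom (algebraMap A B)) =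
      Spec.map (CommRingCat.ofHom (algebraMap A B')) := by
  rw [← Spec.map_comp, ← CommRingCat.ofHom_comp]
  exact congrArg (fun r => Spec.map (CommRingCat.ofHom r)) (RingHom.ext fun a => g.commutes a)

theorem specMap_mk_algebraMap {A B : Type u} [CommRing A] [CommRing B] [Algebra A B] (J : Ideal B) :
    Spec.map (CommRingCat.ofHom (Ideal.Quotient.mk J)) ≫ Spec.map (CommRingCat.ofHom (algebraMap A B)) =
      Spec.map (CommRingCat.ofHom (algebraMap A (B ⧸ J))) :=
  specMap_comp_algHom (Ideal.Quotient.mkₐ A J)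

/-- The spectrum of an algebra over the coordinate ring of the thickening. -/
noncomputable abbrev spT (B : Type u) [CommRing B] [Algebra sq.A B] : Over S :=
  Over.mk (Spec.map (CommRingCat.ofHom (algebraMap sq.A B)) ≫ sq.str)

/-- Functoriality of `spT`. -/
noncomputable def spMap {B B' : Type u} [CommRing B] [CommRing B'] [Algebra sq.A B] [Algebra sq.A B']
    (g : B →ₐ[sq.A] B') : spT sq B' ⟶ spT sq B :=
  Over.homMk (Spec.map (CommRingCat.ofHom g.toRingHom))
    ((Category.assoc _ _ _).symm.trans (congrArg (· ≫ sq.str) (specMap_comp_algHom g)))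

/-- The structure map to the thickening. -/
noncomputable def toT' (B : Type u) [CommRing B] [Algebra sq.A B] : spT sq B ⟶ sq.ptT' :=
  Over.homMk (Spec.map (CommRingCat.ofHom (algebraMap sq.A B))) rfl

/-- The structure map to the closed subscheme. -/
noncomputable def toT (B : Type u) [CommRing B] [Algebra sq.A B]
    (h0 : ∀ i ∈ sq.I, algebraMap sq.A B i = 0) : spT sq B ⟶ sq.ptT :=
  Over.homMk (Spec.map (CommRingCat.ofHom (Ideal.Quotient.lift sq.I (algebraMap sq.A B) h0))) (by
    simp only [Over.mk_hom, ← Spec.map_comp_assoc, ← CommRingCat.ofHom_comp, Ideal.Quotient.lift_comp_mk])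

section functorial

variable {B B' B'' : Type u} [CommRing B] [CommRing B'] [CommRing B''] [Algebra sq.A B] [Algebra sq.A B']
  [Algebra sq.A B'']

theorem spMap_comp (g : B →ₐ[sq.A] B') (g' : B' →ₐ[sq.A] B'') :
    spMap sq g' ≫ spMap sq g = spMap sq (g'.comp g) := by
  apply Over.OverMorphism.ext
  simp only [spMap, Over.comp_left, Over.homMk_left, ← Spec.map_comp]
  rfl

theorem spMap_toT' (g : B →ₐ[sq.A] B') : spMap sq g ≫ toT' sq B = toT' sq B' := by
  apply Over.OverMorphism.ext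
  simp only [spMap, toT', Over.comp_left, Over.homMk_left]
  exact specMap_comp_algHom g

theorem spMap_toT (g : B →ₐ[sq.A] B') (h0 : ∀ i ∈ sq.I, algebraMap sq.A B i = 0)
    (h0' : ∀ i ∈ sq.I, algebraMap sq.A B' i = 0) : spMap sq g ≫ toT sq B h0 = toT sq B' h0' := by
  apply Over.OverMorphism.ext
  simp only [spMap, toT, Over.comp_left, Over.homMk_left, ← Spec.map_comp, ← CommRingCat.ofHom_comp]
  congr 2
  exact Ideal.Quotient.ringHom_ext (RingHom.ext fun a => g.commutes a)

theorem toT_j (h0 : ∀ i ∈ sq.I, algebraMap sq.A B i = 0) : toT sq B h0 ≫ sq.j = toT' sq B := by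
  apply Over.OverMorphism.ext
  simp only [toT, toT', Over.comp_left, Over.homMk_left, ← Spec.map_comp, ← CommRingCat.ofHom_comp,
    Ideal.Quotient.lift_comp_mk]

theorem quotTo_aux (B : Type u) [CommRing B] [Algebra sq.A B] (J : Ideal B) :
    Spec.map (CommRingCat.ofHom (Ideal.Quotient.mk J)) ≫
      Spec.map (CommRingCat.ofHom (algebraMap sq.A B)) ≫ sq.str =
    Spec.map (CommRingCat.ofHom (algebraMap sq.A (B ⧸ J))) ≫ sq.str := by
  rw [← Category.assoc, specMap_mk_algebraMap]

/-- Identification of the closed subscheme of a lifting square over an algebra. -/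
noncomputable def quotTo (B : Type u) [CommRing B] [Algebra sq.A B] (J : Ideal B) :
    Over.mk (Spec.map (CommRingCat.ofHom (Ideal.Quotient.mk J)) ≫
      Spec.map (CommRingCat.ofHom (algebraMap sq.A B)) ≫ sq.str) ⟶ spT sq (B ⧸ J) :=
  Over.homMk (U := Over.mk (Spec.map (CommRingCat.ofHom (Ideal.Quotient.mk J)) ≫
      Spec.map (CommRingCat.ofHom (algebraMap sq.A B)) ≫ sq.str)) (V := spT sq (B ⧸ J)) (𝟙 (Spec (CommRingCat.of (B ⧸ J))))
    (by simp only [Over.mk_hom]; exact (quotTo_aux sq B J).symm)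

/-- Identification of the closed subscheme of a lifting square over an algebra. -/
noncomputable def quotOf (B : Type u) [CommRing B] [Algebra sq.A B] (J : Ideal B) :
    spT sq (B ⧸ J) ⟶ Over.mk (Spec.map (CommRingCat.ofHom (Ideal.Quotient.mk J)) ≫
      Spec.map (CommRingCat.ofHom (algebraMap sq.A B)) ≫ sq.str) :=
  Over.homMk (U := spT sq (B ⧸ J)) (V := Over.mk (Spec.map (CommRingCat.ofHom (Ideal.Quotient.mk J)) ≫
      Spec.map (CommRingCat.ofHom (algebraMap sq.A B)) ≫ sq.str)) (𝟙 (Spec (CommRingCat.of (B ⧸ J))))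
    (by simp only [Over.mk_hom]; exact quotTo_aux sq B J)

/-- The lifting square over an algebra. -/
noncomputable abbrev spSq (B : Type u) [CommRing B] [Algebra sq.A B] (J : Ideal B) (hJ : J ^ 2 = ⊥)
    {F G : Sp S} (g : F ⟶ G) (t : (yon S).obj (spT sq (B ⧸ J)) ⟶ F) (l : (yon S).obj (spT sq B) ⟶ G)
    (w : t ≫ g = (yon S).map (spMap sq (Ideal.Quotient.mkₐ sq.A J)) ≫ l) : InfSq g where
  A := B
  I := J
  sq_zero := hJ
  str := Spec.map (CommRingCat.ofHom (algebraMap sq.A B)) ≫ sq.str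
  top := (yon S).map (quotTo sq B J) ≫ t
  bot := l
  comm := by
    rw [Category.assoc, w, ← Functor.map_comp_assoc]
    congr 2

theorem quotOf_quotTo (B : Type u) [CommRing B] [Algebra sq.A B] (J : Ideal B) :
    quotOf sq B J ≫ quotTo sq B J = 𝟙 (spT sq (B ⧸ J)) := by
  apply Over.OverMorphism.ext
  simp only [quotOf, quotTo, Over.comp_left, Over.homMk_left, Over.id_left]
  exact Category.id_comp (𝟙 (Spec (CommRingCat.of (B ⧸ J))))

theorem quotTo_quotOf (B : Type u) [CommRing B] [Algebra sq.A B] (J : Ideal B) :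
    quotTo sq B J ≫ quotOf sq B J = 𝟙 _ := by
  apply Over.OverMorphism.ext
  simp only [quotOf, quotTo, Over.comp_left, Over.homMk_left, Over.id_left]
  exact Category.id_comp (𝟙 (Spec (CommRingCat.of (B ⧸ J))))

theorem spMap_mk_eq (B : Type u) [CommRing B] [Algebra sq.A B] (J : Ideal B) :
    spMap sq (Ideal.Quotient.mkₐ sq.A J) = quotOf sq B J ≫
      (Over.homMk (Spec.map (CommRingCat.ofHom (Ideal.Quotient.mk J))) rfl :
        Over.mk (Spec.map (CommRingCat.ofHom (Ideal.Quotient.mk J)) ≫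
          Spec.map (CommRingCat.ofHom (algebraMap sq.A B)) ≫ sq.str) ⟶
        Over.mk (Spec.map (CommRingCat.ofHom (algebraMap sq.A B)) ≫ sq.str)) :=
  Over.OverMorphism.ext (Category.id_comp (Spec.map (CommRingCat.ofHom (Ideal.Quotient.mk J)))).symm

/-- Unique lifts along representable etale morphisms. -/
theorem existsUnique_etale_lift (J : Ideal B) (hJ : J ^ 2 = ⊥) {U : Over S} {G : Sp S}
    {a : (yon S).obj U ⟶ G} (ha : RepWith @Etale a) (t : spT sq (B ⧸ J) ⟶ U)
    (l : (yon S).obj (spT sq B) ⟶ G)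
    (w : (yon S).map t ≫ a = (yon S).map (spMap sq (Ideal.Quotient.mkₐ sq.A J)) ≫ l) :
    ∃! l' : spT sq B ⟶ U, spMap sq (Ideal.Quotient.mkₐ sq.A J) ≫ l' = t ∧ (yon S).map l' ≫ a = l := by
  let P := spSq sq B J hJ a ((yon S).map t) l w
  let e : spT sq (B ⧸ J) ⟶ P.ptT := quotOf sq B J
  let e' : P.ptT ⟶ spT sq (B ⧸ J) := quotTo sq B J
  have he : spMap sq (Ideal.Quotient.mkₐ sq.A J) = e ≫ P.j := spMap_mk_eq sq B J
  have hee : e ≫ e' = 𝟙 _ := quotOf_quotTo sq B J
  have hee' : e' ≫ e = 𝟙 _ := quotTo_quotOf sq B J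
  obtain ⟨l', ⟨h₁, h₂⟩, hu⟩ := etale_of_repWith_etale ha P
  have h₁ : (yon S).map P.j ≫ l' = (yon S).map e' ≫ (yon S).map t := h₁
  have hl' : (yon S).map (pre l') = l' := map_pre l'
  refine ⟨pre l', ⟨(yon S).map_injective ?_, by rw [hl']; exact h₂⟩, fun m ⟨m₁, m₂⟩ => (yon S).map_injective ?_⟩
  · rw [Functor.map_comp, hl', he, Functor.map_comp, Category.assoc, h₁, ← Functor.map_comp_assoc, hee,
      CategoryTheory.Functor.map_id, Category.id_comp]
  · rw [hl']
    refine hu _ ⟨?_, m₂⟩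
    change (yon S).map P.j ≫ (yon S).map m = (yon S).map e' ≫ (yon S).map t
    rw [← m₁, he, ← Functor.map_comp, ← Functor.map_comp, Category.assoc, reassoc_of% hee']

end functorial

/-- A faithfully flat etale algebra over which the top arrow lifts to a given atlas. -/
theorem exists_ff_chart {U : Over S} {a : (yon S).obj U ⟶ X} (ha : RepWith @Etale a)
    (ha' : RepWith @Surjective a) :
    ∃ (Q : Type u) (_ : CommRing Q) (_ : Algebra sq.A Q) (h0 : ∀ i ∈ sq.I,
        algebraMap sq.A (Q ⧸ sq.I.map (algebraMap sq.A Q)) i = 0)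
      (u : spT sq (Q ⧸ sq.I.map (algebraMap sq.A Q)) ⟶ U),
      Algebra.Etale sq.A Q ∧ Module.FaithfullyFlat sq.A Q ∧ Etale (toT sq _ h0).left ∧ Surjective (toT sq _ h0).left ∧
        (yon S).map u ≫ a = (yon S).map (toT sq _ h0) ≫ sq.top := by
  obtain ⟨W, fst, snd, sqW⟩ := exists_sq ha.1 sq.top
  have : Etale snd.left := ha.2 _ _ _ sqW
  have : Surjective snd.left := ha'.2 _ _ _ sqW
  choose O hO hwO using fun w : ↥W.left =>
    exists_isAffineOpen_mem_and_subset (show w ∈ (⊤ : W.left.Opens) from trivial)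
  have hcov : (Set.univ : Set ↥sq.ptT.left) ⊆ ⋃ w, snd.left '' (O w : Set W.left) := fun t _ => by
    obtain ⟨w, rfl⟩ := snd.left.surjective t
    exact Set.mem_iUnion.2 ⟨w, w, (hwO w).1, rfl⟩
  have : IsAffine sq.ptT.left := isAffine_Spec _
  have hcpt : IsCompact (Set.univ : Set ↥sq.ptT.left) := isCompact_univ
  obtain ⟨s, hs⟩ := hcpt.elim_finite_subcover _
    (fun w => snd.left.isOpenMap _ (O w).2) hcov
  have : ∀ i : (s : Set W.left), IsAffine (O i.1).toScheme := fun i => hO i.1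
  let W' : Scheme.{u} := ∐ fun i : (s : Set W.left) => (O i.1).toScheme
  let p : W' ⟶ W.left := Sigma.desc fun i => (O i.1).ι
  have hpe : Etale (p ≫ snd.left) := by
    have : p ≫ snd.left = Sigma.desc fun i : (s : Set W.left) => (O i.1).ι ≫ snd.left :=
      Sigma.hom_ext _ _ fun i => by simp [p]
    rw [this]
    exact IsZariskiLocalAtSource.sigmaDesc fun i => inferInstance
  have hps : Surjective (p ≫ snd.left) := ⟨fun t => by
    obtain ⟨w, hw, x, hx, rfl⟩ : ∃ w ∈ s, ∃ x ∈ O w, snd.left x = t := by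
      simpa using hs (Set.mem_univ t)
    refine ⟨(Sigma.ι (fun i : (s : Set W.left) => (O i.1).toScheme) ⟨w, hw⟩) ⟨x, hx⟩, ?_⟩
    rw [← Scheme.Hom.comp_apply, Sigma.ι_desc_assoc]
    rfl⟩
  have : IsAffine W' := inferInstance
  obtain ⟨φ₀, hφ₀⟩ := Spec.map_surjective (W'.isoSpec.inv ≫ p ≫ snd.left)
  let Q₀ : Type u := Γ(W', ⊤)
  have hφe : Etale (Spec.map φ₀) := by rw [hφ₀]; infer_instance
  have hφs : Surjective (Spec.map φ₀) := by rw [hφ₀]; infer_instance
  let : Algebra (sq.A ⧸ sq.I) Q₀ := φ₀.hom.toAlgebra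
  let : Algebra sq.A Q₀ := (φ₀.hom.comp (Ideal.Quotient.mk sq.I)).toAlgebra
  have : IsScalarTower sq.A (sq.A ⧸ sq.I) Q₀ := .of_algebraMap_eq fun _ => rfl
  have : Algebra.Etale (sq.A ⧸ sq.I) Q₀ := (HasRingHomProperty.Spec_iff (P := @Etale)).1 hφe
  obtain ⟨Q, _, _, σ, hQ, hσ, hker⟩ := exists_etale_lift sq.A (sq.A ⧸ sq.I) Q₀ Ideal.Quotient.mk_surjective
  let K := sq.I.map (algebraMap sq.A Q)
  have hker' : RingHom.ker σ = K := hker.trans (congrArg _ Ideal.mk_ker)
  let θ : (Q ⧸ K) ≃ₐ[sq.A] Q₀ :=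
    (Ideal.quotientEquivAlgOfEq sq.A hker'.symm).trans (Ideal.quotientKerAlgEquivOfSurjective hσ)
  have h0 : ∀ i ∈ sq.I, algebraMap sq.A (Q ⧸ K) i = 0 := fun i hi => by
    rw [IsScalarTower.algebraMap_apply sq.A Q, Ideal.Quotient.algebraMap_eq, Ideal.Quotient.eq_zero_iff_mem]
    exact Ideal.mem_map_of_mem _ hi
  let c : (Spec (CommRingCat.of (Q ⧸ K))) ⟶ W' :=
    Spec.map (CommRingCat.ofHom θ.symm.toAlgHom.toRingHom) ≫ W'.isoSpec.inv
  have hθi : IsIso (Spec.map (CommRingCat.ofHom θ.symm.toAlgHom.toRingHom)) :=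
    inferInstanceAs (IsIso (Spec.map θ.symm.toRingEquiv.toCommRingCatIso.hom))
  have hc : c ≫ p ≫ snd.left = (toT sq (Q ⧸ K) h0).left := by
    simp only [c, Category.assoc, ← hφ₀, toT, Over.homMk_left]
    rw [← Spec.map_comp]
    congr 1
    refine CommRingCat.hom_ext (Ideal.Quotient.ringHom_ext (RingHom.ext fun a => ?_))
    exact θ.symm.commutes a
  let cu : spT sq (Q ⧸ K) ⟶ W := Over.homMk (c ≫ p) (by
    rw [← Over.w snd, ← Category.assoc, Category.assoc c p, hc]
    exact Over.w (toT sq (Q ⧸ K) h0))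
  have hcu : cu ≫ snd = toT sq (Q ⧸ K) h0 := Over.OverMorphism.ext ((Category.assoc _ _ _).trans hc)
  have hE : Etale (toT sq (Q ⧸ K) h0).left := by rw [← hc]; infer_instance
  have hS : Surjective (toT sq (Q ⧸ K) h0).left := by rw [← hc]; infer_instance
  refine ⟨Q, inferInstance, inferInstance, h0, cu ≫ pre fst, hQ, ?_, hE, hS, ?_⟩
  · refine Module.FaithfullyFlat.of_comap_surjective fun t => ?_
    obtain ⟨t₀, ht₀⟩ := surjective_j sq t
    obtain ⟨z, rfl⟩ := (toT sq (Q ⧸ K) h0).left.surjective t₀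
    refine ⟨(spMap sq (Ideal.Quotient.mkₐ sq.A K)).left z, ?_⟩
    rw [← ht₀]
    change ((spMap sq (Ideal.Quotient.mkₐ sq.A K)).left ≫ (toT' sq Q).left) z = _
    rw [← Over.comp_left, spMap_toT', ← toT_j sq h0]
    rfl
  · rw [Functor.map_comp, map_pre, Category.assoc, sqW.w, ← Functor.map_comp_assoc, hcu]

/-- Formally smooth charts give lifts. -/
theorem hasLift_of_chart {U V : Over S} {a : (yon S).obj U ⟶ X} {b : (yon S).obj V ⟶ Y} {h : U ⟶ V}
    (ha : RepWith @Etale a) (has : RepWith @Surjective a) (hb : RepWith @Etale b)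
    (w : a ≫ f = (yon S).map h ≫ b) (hh : MoreMor.IsFormallySmoothHom h.left) : sq.HasLift := by
  obtain ⟨Q, _, _, h0, u, hQe, hQff, huE, huS, hu⟩ := exists_ff_chart sq ha has
  let A := sq.A
  let K := sq.I.map (algebraMap A Q)
  have hK : K ^ 2 = ⊥ := by rw [← Ideal.map_pow, sq.sq_zero, Ideal.map_bot]
  have hbot : (yon S).map (u ≫ h) ≫ b =
      (yon S).map (spMap sq (Ideal.Quotient.mkₐ A K)) ≫ (yon S).map (toT' sq Q) ≫ sq.bot := by
    rw [Functor.map_comp, Category.assoc, ← w, reassoc_of% hu, sq.comm, ← Functor.map_comp_assoc, toT_j,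
      ← Functor.map_comp_assoc, spMap_toT']
  obtain ⟨v, ⟨hv₁, hv₂⟩, -⟩ := existsUnique_etale_lift sq K hK hb (u ≫ h) _ hbot
  have wQ : Spec.map (CommRingCat.ofHom (Ideal.Quotient.mk K)) ≫ v.left = u.left ≫ h.left :=
    congrArg CommaMorphism.left hv₁
  obtain ⟨M, _, _, π, lCs, hπ2, hlπ, hlh, huniv⟩ := exists_univLiftAlg h.left u.left v.left hK wQ
  let : Algebra A M := ((algebraMap Q M).comp (algebraMap A Q)).toAlgebra
  have : IsScalarTower A Q M := .of_algebraMap_eq fun _ => rfl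
  let qM : Q →ₐ[A] M := IsScalarTower.toAlgHom A Q M
  let lU : spT sq M ⟶ U := Over.homMk lCs (by
    rw [← Over.w h, reassoc_of% hlh, Over.w v]
    exact Over.w (spMap sq qM))
  have hlUh : lU ≫ h = spMap sq qM ≫ v := Over.OverMorphism.ext hlh
  let lC := (yon S).map lU ≫ a
  have hlUπ : spMap sq (π.restrictScalars A) ≫ lU = u := Over.OverMorphism.ext hlπ
  have hlC : lC ≫ f = (yon S).map (toT' sq M) ≫ sq.bot := by
    simp only [lC, Category.assoc, w]
    rw [← Functor.map_comp_assoc, hlUh, Functor.map_comp_assoc, hv₂, ← Functor.map_comp_assoc, spMap_toT']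
  -- maps killing the kernel of `π`
  have restr : ∀ (B : Type u) [CommRing B] [Algebra A B] [Algebra Q B] [IsScalarTower A Q B]
      (g : M →ₐ[Q] B) (hB : ∀ i ∈ sq.I, algebraMap A B i = 0), RingHom.ker π ≤ RingHom.ker g →
      (yon S).map (spMap sq (g.restrictScalars A)) ≫ lC = (yon S).map (toT sq B hB) ≫ sq.top := by
    intro B _ _ _ _ g hB hg
    have hKB : ∀ x ∈ K, algebraMap Q B x = 0 := by
      have : K ≤ RingHom.ker (algebraMap Q B) := Ideal.map_le_iff_le_comap.2 fun i hi => by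
        rw [Ideal.mem_comap, RingHom.mem_ker, ← IsScalarTower.algebraMap_apply]; exact hB i hi
      exact fun x hx => this hx
    let ρ : Q ⧸ K →ₐ[Q] B := Ideal.Quotient.liftₐ K (Algebra.ofId Q B) hKB
    have e : g = ρ.comp π := AlgHom.ext fun m => by
      obtain ⟨r, hr⟩ := Ideal.Quotient.mk_surjective (π m)
      have : π (m - algebraMap Q M r) = 0 := by
        rw [map_sub, AlgHom.commutes, Ideal.Quotient.algebraMap_eq, hr, sub_self]
      have := hg this
      rw [RingHom.mem_ker, map_sub, AlgHom.commutes, sub_eq_zero] at this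
      rw [this, AlgHom.comp_apply, ← hr]
      rfl
    have e' : spMap sq (g.restrictScalars A) = spMap sq (ρ.restrictScalars A) ≫ spMap sq (π.restrictScalars A) := by
      rw [spMap_comp, e]; rfl
    rw [e', Functor.map_comp_assoc]
    simp only [lC]
    rw [← Functor.map_comp_assoc (yon S) (spMap sq (π.restrictScalars A)), hlUπ, hu, ← Functor.map_comp_assoc,
      spMap_toT sq _ h0 hB]
  -- the universal property
  have univ : ∀ (A' : Type u) [CommRing A'] [Algebra A A'] [Algebra Q A'] [IsScalarTower A Q A'] (J : Ideal A')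
      (_ : J ^ 2 = ⊥) (hII : sq.I.map (algebraMap A A') ≤ J) (l : (yon S).obj (spT sq A') ⟶ X),
      l ≫ f = (yon S).map (toT' sq A') ≫ sq.bot →
      (yon S).map (spMap sq (Ideal.Quotient.mkₐ A J)) ≫ l = (yon S).map (toT sq (A' ⧸ J) (fun i hi =>
        Ideal.Quotient.eq_zero_iff_mem.2 (hII (Ideal.mem_map_of_mem _ hi)))) ≫ sq.top →
      ∃! δ : M →ₐ[Q] A', RingHom.ker π ≤ J.comap δ ∧ (yon S).map (spMap sq (δ.restrictScalars A)) ≫ lC = l := by
    intro A' _ _ _ _ J hJ hII l hlf hlt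
    have hB : ∀ i ∈ sq.I, algebraMap A (A' ⧸ J) i = 0 :=
      fun i hi => Ideal.Quotient.eq_zero_iff_mem.2 (hII (Ideal.mem_map_of_mem _ hi))
    have hKJ : K.map (algebraMap Q A') ≤ J := by
      rw [Ideal.map_map, ← IsScalarTower.algebraMap_eq]; exact hII
    let ρ : (Q ⧸ K) →ₐ[A] (A' ⧸ J) :=
      Ideal.quotientMapₐ J (IsScalarTower.toAlgHom A Q A') (Ideal.map_le_iff_le_comap.1 hKJ)
    let t := spMap sq ρ ≫ u
    obtain ⟨lU', ⟨ht, hla⟩, hlu⟩ := existsUnique_etale_lift sq J hJ ha t l (by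
      rw [Functor.map_comp, Category.assoc, hu, ← Functor.map_comp_assoc, spMap_toT sq _ h0 hB, hlt])
    let qA : Q →ₐ[A] A' := IsScalarTower.toAlgHom A Q A'
    have hρ : spMap sq (Ideal.Quotient.mkₐ A J) ≫ spMap sq qA = spMap sq ρ ≫ spMap sq (Ideal.Quotient.mkₐ A K) := by
      rw [spMap_comp, spMap_comp]; rfl
    have hlh' : lU' ≫ h = spMap sq qA ≫ v := by
      refine (existsUnique_etale_lift sq J hJ hb (t ≫ h) (l ≫ f) ?_).unique ⟨?_, ?_⟩ ⟨?_, ?_⟩
      · rw [Functor.map_comp, Category.assoc, ← w, ← Category.assoc, ← Category.assoc, Functor.map_comp, Category.assoc _ _ a,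
          hu, ← Functor.map_comp_assoc, spMap_toT sq _ h0 hB, hlt, Category.assoc]
      · rw [reassoc_of% ht]
      · rw [Functor.map_comp, Category.assoc, ← w, reassoc_of% hla]
      · rw [reassoc_of% hρ, hv₁]; simp only [t, Category.assoc]
      · rw [Functor.map_comp, Category.assoc, hv₂, ← Functor.map_comp_assoc, spMap_toT', hlf]
    obtain ⟨δ, ⟨hδc, hδl⟩, hδu⟩ := huniv A' J hJ hKJ lU'.left (congrArg CommaMorphism.left hlh')
      (congrArg CommaMorphism.left ht)
    have conv : ∀ δ : M →ₐ[Q] A', RingHom.ker π ≤ J.comap δ → SmoothLift.Compat π J δ := fun δ hδ c r hc => by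
      have := hδ (show c - algebraMap Q M r ∈ RingHom.ker π by
        rw [RingHom.mem_ker, map_sub, AlgHom.commutes, Ideal.Quotient.algebraMap_eq, hc, sub_self])
      rwa [Ideal.mem_comap, map_sub, AlgHom.commutes] at this
    have hδU : spMap sq (δ.restrictScalars A) ≫ lU = lU' := Over.OverMorphism.ext hδl
    refine ⟨δ, ⟨fun m hm => ?_, ?_⟩, fun δ' ⟨h₁, h₂⟩ => hδu δ' ⟨conv δ' h₁, ?_⟩⟩
    · simpa using hδc m 0 (by rw [map_zero]; exact hm)
    · simp only [lC]; rw [← Functor.map_comp_assoc, hδU, hla]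
    · have : spMap sq (δ'.restrictScalars A) ≫ lU = lU' := hlu _ ⟨?_, ?_⟩
      · exact congrArg CommaMorphism.left this
      · have e : spMap sq (Ideal.Quotient.mkₐ A J) ≫ spMap sq (δ'.restrictScalars A) =
            spMap sq ρ ≫ spMap sq (π.restrictScalars A) := by
          rw [spMap_comp, spMap_comp]
          congr 1
          refine AlgHom.ext fun m => ?_
          obtain ⟨r, hr⟩ := Ideal.Quotient.mk_surjective (π m)
          change Ideal.Quotient.mk J (δ' m) = ρ (π m)
          rw [← hr]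
          exact Ideal.Quotient.eq.2 (conv δ' h₁ m r hr.symm)
        rw [reassoc_of% e, hlUπ]
      · rw [Functor.map_comp, Category.assoc]; exact h₂
  have hπs : Function.Surjective π := fun x => by
    obtain ⟨r, rfl⟩ := Ideal.Quotient.mk_surjective x
    exact ⟨algebraMap Q M r, π.commutes r⟩
  have hIker : sq.I.map (algebraMap A M) ≤ RingHom.ker π := Ideal.map_le_iff_le_comap.2 fun i hi => by
    rw [Ideal.mem_comap, RingHom.mem_ker, IsScalarTower.algebraMap_apply A Q M, AlgHom.commutes,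
      Ideal.Quotient.algebraMap_eq, Ideal.Quotient.eq_zero_iff_mem]
    exact Ideal.mem_map_of_mem _ hi
  -- the coaction
  let i₂ : M →ₐ[A] Q ⊗[A] M := Algebra.TensorProduct.includeRight
  let K₂ : Ideal (Q ⊗[A] M) := (RingHom.ker π).map i₂.toRingHom
  have hK₂ : K₂ ^ 2 = ⊥ := by rw [← Ideal.map_pow, hπ2, Ideal.map_bot]
  have hK₂I : sq.I.map (algebraMap A (Q ⊗[A] M)) ≤ K₂ := Ideal.map_le_iff_le_comap.2 fun i hi => by
    rw [Ideal.mem_comap, ← i₂.commutes]
    exact Ideal.mem_map_of_mem _ (hIker (Ideal.mem_map_of_mem _ hi))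
  have push : ∀ (A' : Type u) [CommRing A'] [Algebra A A'] (g : M →ₐ[A] A') (J : Ideal A')
      (hII : sq.I.map (algebraMap A A') ≤ J), RingHom.ker π ≤ J.comap g →
      (yon S).map (spMap sq (Ideal.Quotient.mkₐ A J)) ≫ (yon S).map (spMap sq g) ≫ lC =
        (yon S).map (toT sq (A' ⧸ J) (fun i hi =>
          Ideal.Quotient.eq_zero_iff_mem.2 (hII (Ideal.mem_map_of_mem _ hi)))) ≫ sq.top := by
    intro A' _ _ g J hII hg
    algebraize [((Ideal.Quotient.mkₐ A J).comp (g.comp qM)).toRingHom]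
    have : IsScalarTower A Q (A' ⧸ J) :=
      .of_algebraMap_eq fun r => (((Ideal.Quotient.mkₐ A J).comp (g.comp qM)).commutes r).symm
    let g' : M →ₐ[Q] A' ⧸ J := { ((Ideal.Quotient.mkₐ A J).comp g).toRingHom with commutes' := fun _ => rfl }
    rw [← Functor.map_comp_assoc, spMap_comp]
    exact restr (A' ⧸ J) g' _ fun m hm => Ideal.Quotient.eq_zero_iff_mem.2 (hg hm)
  obtain ⟨p, ⟨hpK, hpl⟩, -⟩ := univ (Q ⊗[A] M) K₂ hK₂ hK₂I ((yon S).map (spMap sq i₂) ≫ lC)
    (by rw [Category.assoc, hlC, ← Functor.map_comp_assoc, spMap_toT'])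
    (push _ i₂ K₂ hK₂I fun m hm => Ideal.mem_map_of_mem _ hm)
  let μ : Q ⊗[A] M →ₐ[Q] M :=
    Algebra.TensorProduct.lift (Algebra.ofId Q M) (AlgHom.id A M) fun _ _ => Commute.all _ _
  have hμ : ∀ m, μ (p m) = m := by
    have : μ.comp p = AlgHom.id Q M := by
      refine (univ M (RingHom.ker π) hπ2 hIker lC hlC ?_).unique ⟨?_, ?_⟩ ⟨?_, ?_⟩
      · have := push M (AlgHom.id A M) _ hIker le_rfl
        have e : spMap sq (AlgHom.id A M) = 𝟙 _ := Over.OverMorphism.ext (by simp [spMap])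
        rwa [e, CategoryTheory.Functor.map_id, Category.id_comp] at this
      · intro m hm
        have : K₂ ≤ (RingHom.ker π).comap μ := Ideal.map_le_iff_le_comap.2 fun n (hn : π n = 0) => by
          simp [μ, i₂, hn]
        exact this (hpK hm)
      · have e : (μ.comp p).restrictScalars A = (μ.restrictScalars A).comp (p.restrictScalars A) := rfl
        rw [e, ← spMap_comp, Functor.map_comp_assoc, hpl, ← Functor.map_comp_assoc, spMap_comp]
        have e' : (μ.restrictScalars A).comp i₂ = AlgHom.id A M := AlgHom.ext fun m => by simp [μ, i₂]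
        rw [e', show spMap sq (AlgHom.id A M) = 𝟙 _ from Over.OverMorphism.ext (by simp [spMap]),
          CategoryTheory.Functor.map_id, Category.id_comp]
      · exact le_rfl
      · rw [show spMap sq ((AlgHom.id Q M).restrictScalars A) = 𝟙 _ from Over.OverMorphism.ext (by simp [spMap]),
          CategoryTheory.Functor.map_id, Category.id_comp]
    exact fun m => AlgHom.congr_fun this m
  let i₂' : Q ⊗[A] M →ₐ[A] Q ⊗[A] (Q ⊗[A] M) := Algebra.TensorProduct.includeRight
  let K₃ : Ideal (Q ⊗[A] (Q ⊗[A] M)) := K₂.map i₂'.toRingHom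
  have hK₃I : sq.I.map (algebraMap A (Q ⊗[A] (Q ⊗[A] M))) ≤ K₃ := Ideal.map_le_iff_le_comap.2 fun i hi => by
    rw [Ideal.mem_comap, ← i₂'.commutes]
    exact Ideal.mem_map_of_mem _ (hK₂I (Ideal.mem_map_of_mem _ hi))
  have hco : ∀ m, Algebra.TensorProduct.map (AlgHom.id Q Q) (p.restrictScalars A) (p m) =
      Algebra.TensorProduct.map (AlgHom.id Q Q) Algebra.TensorProduct.includeRight (p m) := by
    let T₁ : Q ⊗[A] M →ₐ[Q] Q ⊗[A] (Q ⊗[A] M) := Algebra.TensorProduct.map (AlgHom.id Q Q) (p.restrictScalars A)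
    let T₂ : Q ⊗[A] M →ₐ[Q] Q ⊗[A] (Q ⊗[A] M) := Algebra.TensorProduct.map (AlgHom.id Q Q) i₂
    have hT : ∀ (g : M →ₐ[A] Q ⊗[A] M) (_ : RingHom.ker π ≤ K₂.comap g) (m : M), π m = 0 →
        Algebra.TensorProduct.map (AlgHom.id Q Q) g (p m) ∈ K₃ := fun g hg m hm => by
      have : K₂ ≤ K₃.comap (Algebra.TensorProduct.map (AlgHom.id Q Q) g) :=
        Ideal.map_le_iff_le_comap.2 fun n hn => by
          rw [Ideal.mem_comap, Ideal.mem_comap]
          change Algebra.TensorProduct.map (AlgHom.id Q Q) g (1 ⊗ₜ n) ∈ K₃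
          rw [Algebra.TensorProduct.map_tmul, map_one]
          exact Ideal.mem_map_of_mem _ (hg hn)
      exact this (hpK hm)
    have push₂ : ∀ (g : M →ₐ[A] Q ⊗[A] M),
        (yon S).map (spMap sq g) ≫ lC = (yon S).map (spMap sq i₂) ≫ lC →
        (yon S).map (spMap sq (((Algebra.TensorProduct.map (AlgHom.id Q Q) g).comp p).restrictScalars A)) ≫ lC =
          (yon S).map (spMap sq (i₂'.comp i₂)) ≫ lC := fun g hg => by
      have e : ((Algebra.TensorProduct.map (AlgHom.id Q Q) g).comp p).restrictScalars A =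
          ((Algebra.TensorProduct.map (AlgHom.id Q Q) g).restrictScalars A).comp (p.restrictScalars A) := rfl
      have e' : ((Algebra.TensorProduct.map (AlgHom.id Q Q) g).restrictScalars A).comp i₂ = i₂'.comp g :=
        AlgHom.ext fun m => by simp [i₂, i₂']
      rw [e, ← spMap_comp, Functor.map_comp_assoc, hpl, ← Functor.map_comp_assoc, spMap_comp, e',
        ← spMap_comp, Functor.map_comp_assoc, hg, ← Functor.map_comp_assoc, spMap_comp]
    have : T₁.comp p = T₂.comp p := by
      refine (univ _ K₃ (by rw [← Ideal.map_pow, hK₂, Ideal.map_bot]) hK₃I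
        ((yon S).map (spMap sq (i₂'.comp i₂)) ≫ lC) ?_ ?_).unique ⟨?_, ?_⟩ ⟨?_, ?_⟩
      · rw [Category.assoc, hlC, ← Functor.map_comp_assoc, spMap_toT']
      · exact push _ (i₂'.comp i₂) K₃ hK₃I fun m hm => Ideal.mem_map_of_mem _ (Ideal.mem_map_of_mem _ hm)
      · exact fun m hm => hT _ (fun n hn => hpK hn) m hm
      · exact push₂ _ hpl
      · exact fun m hm => hT _ (fun n hn => Ideal.mem_map_of_mem _ hn) m hm
      · exact push₂ _ rfl
    exact fun m => AlgHom.congr_fun this m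
  have hlift : LiftsOver π := by
    intro A' A'' _ _ _ _ _ _ _ _ φ hφ I'' hI'' hker hII η hη
    let φA : A' →ₐ[A] A'' := φ.restrictScalars A
    let u'' := spMap sq (η.restrictScalars A) ≫ lU
    let qA : Q →ₐ[A] A' := IsScalarTower.toAlgHom A Q A'
    have hsh : spMap sq φA ≫ spMap sq qA ≫ v = u'' ≫ h := by
      simp only [u'', Category.assoc]
      rw [hlUh, ← Category.assoc, ← Category.assoc, spMap_comp, spMap_comp]
      congr 2
      exact AlgHom.ext fun r => (φ.commutes r).trans (η.commutes r).symm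
    obtain ⟨lsc, hls₁, hls₂⟩ := lift_of_surjective hh φ.toRingHom hφ
      (le_bot_iff.1 ((pow_le_pow_left' hker 2).trans hI''.le)) u''.left (spMap sq qA ≫ v).left
      (congrArg CommaMorphism.left hsh)
    let l' : spT sq A' ⟶ U := Over.homMk lsc (by
      rw [← Over.w h, ← Category.assoc, hls₂]
      exact Over.w (spMap sq qA ≫ v))
    have hl'₁ : spMap sq φA ≫ l' = u'' := Over.OverMorphism.ext hls₁
    have hl'₂ : l' ≫ h = spMap sq qA ≫ v := Over.OverMorphism.ext hls₂
    let ρ : A'' →ₐ[A] A' ⧸ I'' :=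
      { φ.toRingHom.liftOfSurjective hφ ⟨Ideal.Quotient.mk I'', by rw [Ideal.mk_ker]; exact hker⟩ with
        commutes' := fun r => by
          rw [← φA.commutes]
          exact φ.toRingHom.liftOfSurjective_comp_apply hφ _ _ }
    have hρ : ρ.comp φA = Ideal.Quotient.mkₐ A I'' :=
      AlgHom.ext fun r => φ.toRingHom.liftOfSurjective_comp_apply hφ
        ⟨Ideal.Quotient.mk I'', by rw [Ideal.mk_ker]; exact hker⟩ r
    obtain ⟨δ, ⟨hδJ, hδl⟩, -⟩ := univ A' I'' hI'' hII ((yon S).map l' ≫ a) (by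
        rw [Category.assoc, w, ← Functor.map_comp_assoc, hl'₂, Functor.map_comp_assoc, hv₂,
          ← Functor.map_comp_assoc, spMap_toT'])
      (by
        rw [← Functor.map_comp_assoc, ← hρ, ← spMap_comp, Category.assoc, hl'₁]
        simp only [u'', ← Category.assoc, spMap_comp]
        rw [Functor.map_comp_assoc]
        let g : M →ₐ[Q] A' ⧸ I'' :=
          { (ρ.comp (η.restrictScalars A)).toRingHom with
            commutes' := fun r => by
              change ρ (η (algebraMap Q M r)) = _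
              rw [η.commutes, ← φ.commutes r]
              exact AlgHom.congr_fun hρ _ }
        refine restr (A' ⧸ I'') g _ fun m hm => ?_
        obtain ⟨x, hx, hxm⟩ := (Ideal.mem_map_iff_of_surjective φ hφ).1 (hη hm)
        change ρ (η m) = 0
        rw [← hxm]
        exact (AlgHom.congr_fun hρ x).trans (Ideal.Quotient.eq_zero_iff_mem.2 hx))
    refine ⟨δ, ?_⟩
    have hJ3 : sq.I.map (algebraMap A A'') ≤ I''.map φ := Ideal.map_le_iff_le_comap.2 fun i hi => by
      rw [Ideal.mem_comap, ← φA.commutes]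
      exact Ideal.mem_map_of_mem φ (hII (Ideal.mem_map_of_mem _ hi))
    refine (univ A'' (I''.map φ) (by rw [← Ideal.map_pow, hI'', Ideal.map_bot]) hJ3
      ((yon S).map (spMap sq (η.restrictScalars A)) ≫ lC) ?_ ?_).unique ⟨?_, ?_⟩ ⟨hη, rfl⟩
    · rw [Category.assoc, hlC, ← Functor.map_comp_assoc, spMap_toT']
    · exact push _ (η.restrictScalars A) _ hJ3 hη
    · exact fun m hm => Ideal.mem_map_of_mem φ (hδJ hm)
    · have e : (φ.comp δ).restrictScalars A = φA.comp (δ.restrictScalars A) := rfl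
      rw [e, ← spMap_comp, Functor.map_comp_assoc, hδl, ← Functor.map_comp_assoc, hl'₁]
      simp only [u'', lC, Functor.map_comp, Category.assoc]
  obtain ⟨δ, hδK, hδ⟩ := exists_descended_section π p hμ hco sq.sq_zero hπ2 hpK hlift
  let lQ := (yon S).map (spMap sq (δ.restrictScalars A)) ≫ lC
  let j₁ : Q →ₐ[A] Q ⊗[A] Q := Algebra.TensorProduct.includeLeft
  let j₂ : Q →ₐ[A] Q ⊗[A] Q := Algebra.TensorProduct.includeRight
  have hagree : (yon S).map (spMap sq j₁) ≫ lQ = (yon S).map (spMap sq j₂) ≫ lQ := by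
    let T : Q ⊗[A] M →ₐ[A] Q ⊗[A] Q :=
      (Algebra.TensorProduct.map (AlgHom.id Q Q) (δ.restrictScalars A)).restrictScalars A
    have e₁ : j₁.comp (δ.restrictScalars A) = T.comp (p.restrictScalars A) :=
      AlgHom.ext fun m => (hδ m).symm
    have e₂ : T.comp i₂ = j₂.comp (δ.restrictScalars A) :=
      AlgHom.ext fun m => by simp [T, i₂, j₂]
    simp only [lQ, ← Functor.map_comp_assoc, spMap_comp, e₁]
    rw [← spMap_comp, Functor.map_comp_assoc, hpl, ← Functor.map_comp_assoc, spMap_comp, e₂]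
  have hx : ∀ ⦃Z : Over S⦄ (x y : Z ⟶ spT sq Q), x ≫ toT' sq Q = y ≫ toT' sq Q →
      (yon S).map x ≫ lQ = (yon S).map y ≫ lQ := by
    intro Z x y hxy
    let z := pullback.lift x.left y.left (congrArg CommaMorphism.left hxy) ≫ (pullbackSpecIso A Q Q).hom
    have hz₁ : z ≫ Spec.map (CommRingCat.ofHom j₁.toRingHom) = x.left := by
      simp only [z, j₁, Category.assoc]
      refine (congrArg (_ ≫ ·) (pullbackSpecIso_hom_fst A Q Q)).trans (pullback.lift_fst _ _ _)
    have hz₂ : z ≫ Spec.map (CommRingCat.ofHom j₂.toRingHom) = y.left := by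
      simp only [z, j₂, Category.assoc]
      refine (congrArg (_ ≫ ·) (pullbackSpecIso_hom_snd A Q Q)).trans (pullback.lift_snd _ _ _)
    let Zz : Z ⟶ spT sq (Q ⊗[A] Q) := Over.homMk z (by
      rw [← Over.w (spMap sq j₁), ← Category.assoc]
      exact (congrArg (· ≫ _) hz₁).trans (Over.w x))
    rw [← show Zz ≫ spMap sq j₁ = x from Over.OverMorphism.ext hz₁,
      ← show Zz ≫ spMap sq j₂ = y from Over.OverMorphism.ext hz₂, Functor.map_comp_assoc,
      Functor.map_comp_assoc, hagree]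
  have hfe : Etale (toT' sq Q).left := (HasRingHomProperty.Spec_iff (P := @Etale)).2 (RingHom.etale_algebraMap.2 hQe)
  have hfs : ∀ t : ↥sq.ptT'.left, ∃ _ : PUnit.{u + 1}, t ∈ Set.range (toT' sq Q).left := fun t =>
    ⟨⟨⟩, PrimeSpectrum.comap_surjective_of_faithfullyFlat (A := A) (B := Q) t⟩
  obtain ⟨l, hl, hlu⟩ := existsUnique_glue_fppf (fun _ : PUnit.{u + 1} => spT sq Q) (fun _ => toT' sq Q)
    (fun _ => inferInstance) (fun _ => inferInstance) hfs (fun _ => lQ) fun _ _ Z x y hxy => hx x y hxy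
  have hl : (yon S).map (toT' sq Q) ≫ l = lQ := hl ⟨⟩
  refine ⟨l, ?_, ?_⟩
  · refine (existsUnique_glue_fppf (fun _ : PUnit.{u + 1} => spT sq (Q ⧸ K)) (fun _ => toT sq _ h0)
      (fun _ => inferInstance) (fun _ => inferInstance) (fun t => ⟨⟨⟩, (toT sq _ h0).left.surjective t⟩)
      (fun _ => (yon S).map (toT sq _ h0) ≫ sq.top)
      fun _ _ Z x y hxy => by rw [← Functor.map_comp_assoc, hxy, Functor.map_comp_assoc]).unique
      (fun _ => ?_) (fun _ => rfl)
    rw [← Functor.map_comp_assoc, toT_j, ← spMap_toT' sq (Ideal.Quotient.mkₐ A K), Functor.map_comp_assoc, hl]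
    exact push Q (δ.restrictScalars A) K le_rfl hδK
  · refine (existsUnique_glue_fppf (fun _ : PUnit.{u + 1} => spT sq Q) (fun _ => toT' sq Q)
      (fun _ => inferInstance) (fun _ => inferInstance) hfs
      (fun _ => (yon S).map (toT' sq Q) ≫ sq.bot)
      fun _ _ Z x y hxy => by rw [← Functor.map_comp_assoc, hxy, Functor.map_comp_assoc]).unique
      (fun _ => ?_) (fun _ => rfl)
    rw [reassoc_of% hl]
    simp only [lQ, Category.assoc, hlC]
    rw [← Functor.map_comp_assoc, spMap_toT']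

end Groth.Agent.AlgSpFormal
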