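import Groth.Agent.AlgSpFormal.Basic
import Groth.Agent.AlgSpLoc.Cover

/-!
Lifting along first order thickenings of algebraic spaces.
-/

set_option autoImplicit false
set_option backward.isDefEq.respectTransparency false

universe u

open CategoryTheory CategoryTheory.Limits AlgebraicGeometry Opposite

namespace Groth.Agent.AlgSpFormal

open _root_.AlgSp Groth.Agent.AlgSpc Groth.Agent.AlgSpLoc

variable {S : Scheme.{u}}

/-- A first order thickening of an affine scheme is given by a square-zero ideal. -/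
theorem exists_ideal_of_thick {W V : Over S} (i : W ⟶ V) [IsAffine V.left] (hi : thick i.left)
    (hsq : sqZero i.left) :
    ∃ (A : Type u) (_ : CommRing A) (I : Ideal A) (str : Spec (CommRingCat.of A) ⟶ S)
      (e : Over.mk str ≅ V)
      (e₀ : Over.mk (Spec.map (CommRingCat.ofHom (Ideal.Quotient.mk I)) ≫ str) ≅ W), I ^ 2 = ⊥ ∧
      e₀.hom ≫ i = (Over.homMk (Spec.map (CommRingCat.ofHom (Ideal.Quotient.mk I))) rfl :
        Over.mk (Spec.map (CommRingCat.ofHom (Ideal.Quotient.mk I)) ≫ str) ⟶ Over.mk str) ≫ e.hom := by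
  have : IsClosedImmersion i.left := hi.1
  have : IsAffine W.left := isAffine_of_isAffineHom i.left
  have hsurj : Function.Surjective i.left.appTop :=
    i.left.app_surjective ⊤ (isAffineOpen_top V.left)
  let A := Γ(V.left, ⊤)
  let I : Ideal A := RingHom.ker i.left.appTop.hom
  have hI : I ^ 2 = ⊥ := by
    have h1 : (i.left.ker * i.left.ker).ideal ⟨⊤, isAffineOpen_top V.left⟩ = ⊥ := by rw [hsq]; rfl
    rw [Scheme.IdealSheafData.ideal_mul, Pi.mul_apply, Scheme.Hom.ker_apply] at h1
    rw [pow_two]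
    exact h1
  let q : A ⧸ I ≃+* Γ(W.left, ⊤) := RingHom.quotientKerEquivOfSurjective hsurj
  have hq : CommRingCat.ofHom (Ideal.Quotient.mk I) ≫ q.toCommRingCatIso.hom = i.left.appTop := by
    ext r; rfl
  let ε : Spec (CommRingCat.of (A ⧸ I)) ≅ W.left :=
    (Scheme.Spec.mapIso q.toCommRingCatIso.op).symm ≪≫ W.left.isoSpec.symm
  have hε : ε.hom ≫ i.left = Spec.map (CommRingCat.ofHom (Ideal.Quotient.mk I)) ≫ V.left.isoSpec.inv := by
    simp only [ε, Iso.trans_hom, Iso.symm_hom, Functor.mapIso_inv, Iso.op_inv, Scheme.Spec_map,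
      Quiver.Hom.unop_op, Category.assoc]
    rw [← Scheme.isoSpec_inv_naturality, ← Spec.map_comp_assoc]
    congr 2
    rw [← hq, Category.assoc, Iso.hom_inv_id, Category.comp_id]
  refine ⟨A, inferInstance, I, V.left.isoSpec.inv ≫ V.hom, Over.isoMk V.left.isoSpec.symm rfl,
    Over.isoMk ε ?_, hI, ?_⟩
  · change ε.hom ≫ W.hom = _
    rw [← Over.w i, reassoc_of% hε]
    rfl
  · exact Over.OverMorphism.ext hε

variable {X Y T T' : Sp S} {f : X ⟶ Y} {j : T ⟶ T'}

theorem affine_lift_unique (hf : IsFormallyUnramifiedMor f) (hj : IsFOThickMor j) {V : Over S} [IsAffine V.left]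
    {b : (yon S).obj V ⟶ T'} (hb : RepWith @Etale b) {W : Over S} {fst : (yon S).obj W ⟶ T} {snd : W ⟶ V}
    (sqW : IsPullback fst ((yon S).map snd) j b) (l l' : (yon S).obj V ⟶ X)
    (h₁ : (yon S).map snd ≫ l = (yon S).map snd ≫ l') (h₂ : l ≫ f = l' ≫ f) : l = l' := by
  obtain ⟨A, _, I, str, e, e₀, hI, he⟩ := exists_ideal_of_thick snd (hj.1.2 _ _ _ sqW) (hj.2 b fst snd ‹_› hb sqW)
  let sq : InfSq f := { A := A, I := I, sq_zero := hI, str := str
                        top := (yon S).map e₀.hom ≫ (yon S).map snd ≫ l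
                        bot := (yon S).map e.hom ≫ l ≫ f
                        comm := by
                          simp only [Category.assoc]
                          rw [← Functor.map_comp_assoc, he, Functor.map_comp_assoc] }
  refine (cancel_epi ((yon S).map e.hom)).1 (hf sq ((yon S).map e.hom ≫ l) ((yon S).map e.hom ≫ l') ?_
    (Category.assoc _ _ _) ?_ ?_)
  · change _ = (yon S).map e₀.hom ≫ (yon S).map snd ≫ l
    rw [← Functor.map_comp_assoc, ← Functor.map_comp_assoc, he]
  · change _ = (yon S).map e₀.hom ≫ (yon S).map snd ≫ l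
    rw [h₁, ← Functor.map_comp_assoc, ← Functor.map_comp_assoc, he]
  · change ((yon S).map e.hom ≫ l') ≫ f = (yon S).map e.hom ≫ l ≫ f
    rw [h₂, Category.assoc]

theorem chart_lift_unique (hf : IsFormallyUnramifiedMor f) (hj : IsFOThickMor j) {V : Over S}
    {b : (yon S).obj V ⟶ T'} (hb : RepWith @Etale b) {W : Over S} {fst : (yon S).obj W ⟶ T} {snd : W ⟶ V}
    (sqW : IsPullback fst ((yon S).map snd) j b) (l l' : (yon S).obj V ⟶ X)
    (h₁ : (yon S).map snd ≫ l = (yon S).map snd ≫ l') (h₂ : l ≫ f = l' ≫ f) : l = l' := by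
  choose O hO hzO using fun z : ↥V.left =>
    exists_isAffineOpen_mem_and_subset (show z ∈ (⊤ : V.left.Opens) from trivial)
  refine hom_ext_of_openCover (fun z => openSub V (O z)) (fun z => openSubι V (O z)) (fun z => inferInstance)
    (fun z => ⟨z, (range_openSubι V (O z)).ge (hzO z).1⟩) fun z => ?_
  have : IsAffine (openSub V (O z)).left := hO z
  let bz := (yon S).map (openSubι V (O z)) ≫ b
  have hbz : RepWith @Etale bz :=
    repWith_comp ((repWith_yon_map_iff _ _).2 (inferInstanceAs (Etale (O z).ι))) hb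
  obtain ⟨Wz, fz, sz, sqz⟩ := exists_sq hj.1.1 bz
  refine affine_lift_unique hf hj hbz sqz _ _ ?_ (by rw [Category.assoc, Category.assoc, h₂])
  have w : fz ≫ j = ((yon S).map sz ≫ (yon S).map (openSubι V (O z))) ≫ b := by rw [Category.assoc]; exact sqz.w
  rw [← reassoc_of% (sqW.lift_snd fz _ w), ← reassoc_of% (sqW.lift_snd fz _ w), h₁]

theorem space_lift_unique (hT' : IsAlgSpace T') (hf : IsFormallyUnramifiedMor f) (hj : IsFOThickMor j)
    (l l' : T' ⟶ X) (h₁ : j ≫ l = j ≫ l') (h₂ : l ≫ f = l' ≫ f) : l = l' := by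
  obtain ⟨U, p, hp, hps⟩ := hT'.atlas
  have := epi_of_repWith hp hps
  obtain ⟨W, fst, snd, sqW⟩ := exists_sq hj.1.1 p
  refine (cancel_epi p).1 (chart_lift_unique hf hj hp sqW _ _ ?_ (by rw [Category.assoc, Category.assoc, h₂]))
  rw [← reassoc_of% sqW.w, ← reassoc_of% sqW.w, h₁]

theorem space_lift_exists (hT' : IsAlgSpace T') (hf : IsFormallyEtaleMor f) (hj : IsFOThickMor j)
    (a : T ⟶ X) (b : T' ⟶ Y) (w : a ≫ f = j ≫ b) : ∃ l : T' ⟶ X, j ≫ l = a ∧ l ≫ f = b := by
  have hu := unramified_of_etale hf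
  obtain ⟨U, p, hp, hps⟩ := hT'.atlas
  obtain ⟨W, fst, snd, sqW⟩ := exists_sq hj.1.1 p
  -- lift on the affine opens of the atlas
  choose O hO hzO using fun z : ↥U.left =>
    exists_isAffineOpen_mem_and_subset (show z ∈ (⊤ : U.left.Opens) from trivial)
  have aux : ∀ z, ∃ m : (yon S).obj (openSub U (O z)) ⟶ X, m ≫ f = (yon S).map (openSubι U (O z)) ≫ p ≫ b ∧
      ∀ ⦃Z : Over S⦄ (x : (yon S).obj Z ⟶ T) (y : Z ⟶ openSub U (O z)),
        x ≫ j = (yon S).map y ≫ (yon S).map (openSubι U (O z)) ≫ p → (yon S).map y ≫ m = x ≫ a := fun z => by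
    have : IsAffine (openSub U (O z)).left := hO z
    let bz := (yon S).map (openSubι U (O z)) ≫ p
    have hbz : RepWith @Etale bz :=
      repWith_comp ((repWith_yon_map_iff _ _).2 (inferInstanceAs (Etale (O z).ι))) hp
    obtain ⟨Wz, fz, sz, sqz⟩ := exists_sq hj.1.1 bz
    obtain ⟨A, _, I, str, e, e₀, hI, he⟩ := exists_ideal_of_thick sz (hj.1.2 _ _ _ sqz) (hj.2 bz fz sz ‹_› hbz sqz)
    let sq : InfSq f := { A := A, I := I, sq_zero := hI, str := str
                          top := (yon S).map e₀.hom ≫ fz ≫ a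
                          bot := (yon S).map e.hom ≫ bz ≫ b
                          comm := by
                            simp only [Category.assoc]
                            rw [w, reassoc_of% sqz.w, ← Functor.map_comp_assoc, he, Functor.map_comp_assoc] }
    obtain ⟨m, hm₁, hm₂⟩ := (hf sq).exists
    have hm₂ : m ≫ f = (yon S).map e.hom ≫ bz ≫ b := hm₂
    refine ⟨(yon S).map e.inv ≫ m, ?_, fun Z x y hxy => ?_⟩
    · rw [Category.assoc, hm₂, ← Functor.map_comp_assoc, Iso.inv_hom_id, CategoryTheory.Functor.map_id,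
        Category.id_comp, Category.assoc]
    · have hm₁' : (yon S).map sz ≫ (yon S).map e.inv ≫ m = fz ≫ a := by
        have hm₁ : (yon S).map sq.j ≫ m = (yon S).map e₀.hom ≫ fz ≫ a := hm₁
        rw [← cancel_epi ((yon S).map e₀.hom), ← hm₁, ← Functor.map_comp_assoc, ← Functor.map_comp_assoc,
          Category.assoc, ← Category.assoc e₀.hom, he, Category.assoc, e.hom_inv_id, Category.comp_id]
      rw [← reassoc_of% (sqz.lift_snd x ((yon S).map y) hxy), hm₁', ← Category.assoc, sqz.lift_fst]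
  choose m hm₁ hm₂ using aux
  obtain ⟨n, hn, -⟩ := existsUnique_glue (fun z => openSub U (O z)) (fun z => openSubι U (O z))
    (fun z => inferInstance) (fun z => ⟨z, (range_openSubι U (O z)).ge (hzO z).1⟩) m fun k k' Z x y hxy => by
      -- both restrictions are lifts on the intersection
      let O₂ := O k ⊓ O k'
      let b₂ := (yon S).map (openSubι U O₂) ≫ p
      have hb₂ : RepWith @Etale b₂ :=
        repWith_comp ((repWith_yon_map_iff _ _).2 (inferInstanceAs (Etale O₂.ι))) hp
      obtain ⟨W₂, f₂, s₂, sq₂⟩ := exists_sq hj.1.1 b₂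
      obtain ⟨r, hr⟩ := exists_openSub_lift (O k) (openSubι U O₂) fun t => ((range_openSubι U O₂).le ⟨t, rfl⟩).1
      obtain ⟨r', hr'⟩ := exists_openSub_lift (O k') (openSubι U O₂) fun t => ((range_openSubι U O₂).le ⟨t, rfl⟩).2
      obtain ⟨q, hq⟩ := exists_openSub_lift O₂ (x ≫ openSubι U (O k)) fun t =>
        ⟨(range_openSubι U (O k)).le ⟨_, rfl⟩, by rw [hxy]; exact (range_openSubι U (O k')).le ⟨_, rfl⟩⟩
      have : Mono (openSubι U (O k)) := by
        have : Mono ((Over.forget S).map (openSubι U (O k))) := inferInstanceAs (Mono (O k).ι)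
        exact (Over.forget S).mono_of_mono_map this
      have : Mono (openSubι U (O k')) := by
        have : Mono ((Over.forget S).map (openSubι U (O k'))) := inferInstanceAs (Mono (O k').ι)
        exact (Over.forget S).mono_of_mono_map this
      have hx : x = q ≫ r := by rw [← cancel_mono (openSubι U (O k)), Category.assoc, hr, hq]
      have hy : y = q ≫ r' := by rw [← cancel_mono (openSubι U (O k')), Category.assoc, hr', hq, hxy]
      have key : (yon S).map r ≫ m k = (yon S).map r' ≫ m k' := by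
        refine chart_lift_unique hu hj hb₂ sq₂ _ _ ?_ ?_
        · rw [← Functor.map_comp_assoc, ← Functor.map_comp_assoc]
          rw [hm₂ k f₂ (s₂ ≫ r) ?_, hm₂ k' f₂ (s₂ ≫ r') ?_]
          · rw [sq₂.w]; simp only [b₂, ← Functor.map_comp_assoc, Category.assoc, hr']
          · rw [sq₂.w]; simp only [b₂, ← Functor.map_comp_assoc, Category.assoc, hr]
        · rw [Category.assoc, Category.assoc, hm₁, hm₁, ← Functor.map_comp_assoc, ← Functor.map_comp_assoc, hr, hr']
      rw [hx, hy, Functor.map_comp_assoc, Functor.map_comp_assoc, key]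
  have hnf : n ≫ f = p ≫ b := by
    refine hom_ext_of_openCover (fun z => openSub U (O z)) (fun z => openSubι U (O z)) (fun z => inferInstance)
      (fun z => ⟨z, (range_openSubι U (O z)).ge (hzO z).1⟩) fun z => ?_
    rw [reassoc_of% (hn z), hm₁ z]
  have hnj : ∀ ⦃Z : Over S⦄ (x : (yon S).obj Z ⟶ T) (y : Z ⟶ U), x ≫ j = (yon S).map y ≫ p →
      (yon S).map y ≫ n = x ≫ a := by
    intro Z x y hxy
    refine hom_ext_of_openCover (fun z => openSub Z (y.left ⁻¹ᵁ O z)) (fun z => openSubι Z (y.left ⁻¹ᵁ O z))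
      (fun z => inferInstance)
      (fun s => ⟨y.left s, (range_openSubι Z (y.left ⁻¹ᵁ O (y.left s))).ge (hzO (y.left s)).1⟩) fun z => ?_
    obtain ⟨r, hr⟩ := exists_openSub_lift (O z) (openSubι Z (y.left ⁻¹ᵁ O z) ≫ y) fun t =>
      (range_openSubι Z (y.left ⁻¹ᵁ O z)).le ⟨t, rfl⟩
    rw [← Functor.map_comp_assoc, ← hr, Functor.map_comp_assoc, hn, ← Category.assoc]
    refine hm₂ z _ r ?_
    rw [Category.assoc, hxy, ← Functor.map_comp_assoc, ← hr, Functor.map_comp_assoc]
  obtain ⟨l, hl⟩ := exists_desc_of_atlas hp hps n fun Z x y hxy => by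
    obtain ⟨K, k₁, k₂, sqK⟩ := exists_sq hp.1 p
    obtain ⟨k₁, rfl⟩ := (yon S).map_surjective k₁
    have hb₂ : RepWith @Etale ((yon S).map k₂ ≫ p) := repWith_comp (repWith_of_isPullback sqK hp) hp
    obtain ⟨W₂, f₂, s₂, sq₂⟩ := exists_sq hj.1.1 ((yon S).map k₂ ≫ p)
    have key : (yon S).map k₁ ≫ n = (yon S).map k₂ ≫ n := by
      refine chart_lift_unique hu hj hb₂ sq₂ _ _ ?_ (by rw [Category.assoc, Category.assoc, hnf, reassoc_of% sqK.w])
      rw [← Functor.map_comp_assoc, ← Functor.map_comp_assoc, hnj f₂ (s₂ ≫ k₁) ?_, hnj f₂ (s₂ ≫ k₂) ?_]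
      · rw [sq₂.w, Functor.map_comp_assoc]
      · rw [sq₂.w, Functor.map_comp_assoc, sqK.w]
    rw [← reassoc_of% (sqK.lift_snd ((yon S).map x) ((yon S).map y) hxy), ← key,
      reassoc_of% (sqK.lift_fst ((yon S).map x) ((yon S).map y) hxy)]
  have := epi_of_repWith hp hps
  refine ⟨l, ?_, (cancel_epi p).1 (by rw [reassoc_of% hl, hnf])⟩
  have : Epi fst := epi_of_repWith (repWith_of_isPullback sqW.flip hp) (repWith_of_isPullback sqW.flip hps)
  rw [← cancel_epi fst, ← Category.assoc, sqW.w, Category.assoc, hl, hnj fst snd sqW.w]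

theorem space_lift_existsUnique (hT' : IsAlgSpace T') (hf : IsFormallyEtaleMor f) (hj : IsFOThickMor j)
    (a : T ⟶ X) (b : T' ⟶ Y) (w : a ≫ f = j ≫ b) : ∃! l : T' ⟶ X, j ≫ l = a ∧ l ≫ f = b := by
  obtain ⟨l, hl⟩ := space_lift_exists hT' hf hj a b w
  exact ⟨l, hl, fun l' hl' => space_lift_unique hT' (unramified_of_etale hf) hj l' l (hl'.1.trans hl.1.symm)
    (hl'.2.trans hl.2.symm)⟩

end Groth.Agent.AlgSpFormal
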