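import Groth.Agent.AlgSpFormal.FOBaseChange
import Groth.Agent.AlgSpFormal.Charts

/-!
Universal first order thickenings: base change, etale localisation and descent.
-/

set_option autoImplicit false
set_option backward.isDefEq.respectTransparency false

universe u

open CategoryTheory CategoryTheory.Limits AlgebraicGeometry Opposite

namespace Groth.Agent.AlgSpFormal

open _root_.AlgSp Groth.Agent.AlgSpc Groth.Agent.AlgSpLoc

variable {S : Scheme.{u}}

theorem isFOThickMor_j {F G : Sp S} {f : F ⟶ G} (sq : InfSq f) : IsFOThickMor ((yon S).map sq.j) :=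
  haveI : IsAffine sq.ptT'.left := isAffine_Spec (CommRingCat.of sq.A)
  isFOThickMor_yon_map sq.j (FlatMorLib.isFirstOrderThickening_SpecMap_mk sq.I sq.sq_zero).1
    (FlatMorLib.isFirstOrderThickening_SpecMap_mk sq.I sq.sq_zero).2

theorem isUnivFOThick_baseChange {Z X W Y W' P : Sp S} (hW' : IsAlgSpace W') {h : Z ⟶ X} {f : Z ⟶ W} {g : X ⟶ Y}
    {h' : W ⟶ Y} (sq : IsPullback h f g h') {iW : W ⟶ W'} {hW : W' ⟶ Y} (HU : IsUnivFOThick h' iW hW)
    {pX : P ⟶ X} {pW : P ⟶ W'} (sq' : IsPullback pX pW g hW) {iZ : Z ⟶ P} (w1 : iZ ≫ pX = h)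
    (w2 : iZ ≫ pW = f ≫ iW) : IsUnivFOThick h iZ pX := by
  obtain ⟨hi, hw, hU⟩ := HU
  have sqZ : IsPullback f iZ iW pW := IsPullback.of_bot (by rw [w1, hw]; exact sq.flip) w2.symm sq'.flip
  refine ⟨isFOThickMor_bc hW' hi sqZ, w1, fun T T' hT hT' j a b hj w => ?_⟩
  obtain ⟨c, ⟨hc₁, hc₂⟩, hc⟩ := hU hT hT' j (a ≫ f) (b ≫ g) hj (by
    rw [reassoc_of% w, Category.assoc, sq.w])
  refine ⟨sq'.lift b c hc₂.symm, ⟨sq'.hom_ext ?_ ?_, sq'.lift_fst _ _ _⟩, fun l ⟨l₁, l₂⟩ => ?_⟩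
  · simp only [Category.assoc, sq'.lift_fst, w1]
    exact w
  · simp only [Category.assoc, sq'.lift_snd, hc₁, w2]
  · refine sq'.hom_ext (by rw [sq'.lift_fst]; exact l₂) ?_
    rw [sq'.lift_snd]
    exact hc _ ⟨by rw [reassoc_of% l₁, w2, Category.assoc], by rw [Category.assoc, ← sq'.w, reassoc_of% l₂]⟩

theorem isUnivFOThick_etale_baseChange {Z Y Y' Z' X : Sp S} (hY' : IsAlgSpace Y') (hZ' : IsAlgSpace Z')
    {e : Z ⟶ Y} {hY : Y ⟶ X} {iY : Y ⟶ Y'} {hY'X : Y' ⟶ X} (HU : IsUnivFOThick hY iY hY'X)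
    {iZ : Z ⟶ Z'} {e' : Z' ⟶ Y'} (he' : IsEtaleMor e') (sq : IsPullback e iZ iY e') :
    IsUnivFOThick (e ≫ hY) iZ (e' ≫ hY'X) := by
  obtain ⟨hi, hw, hU⟩ := HU
  refine ⟨isFOThickMor_bc hY' hi sq, by rw [← reassoc_of% sq.w, hw], fun T T' hT hT' j a b hj w => ?_⟩
  obtain ⟨c, ⟨hc₁, hc₂⟩, hc⟩ := hU hT hT' j (a ≫ e) b hj (by rw [Category.assoc]; exact w)
  obtain ⟨l, ⟨hl₁, hl₂⟩, hl⟩ := space_lift_existsUnique hT' (etale_of_isEtaleMor hZ' hY' he') hj (a ≫ iZ) c (by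
    rw [Category.assoc, ← sq.w, hc₁, Category.assoc])
  refine ⟨l, ⟨hl₁, by rw [reassoc_of% hl₂]; exact hc₂⟩, fun l' ⟨h₁, h₂⟩ => hl l' ⟨h₁, hc _ ⟨?_, ?_⟩⟩⟩
  · rw [reassoc_of% h₁, ← sq.w, Category.assoc]
  · rw [Category.assoc]; exact h₂

theorem flat_lfp_glue_unique {F G X : Sp S} {f : F ⟶ G} (sq : InfSq f) (Q : ↥sq.ptT'.left → Type u)
    [∀ t, CommRing (Q t)] (φ : ∀ t, sq.A →+* Q t) (hφ : ∀ t, (φ t).Etale)
    (ht : ∀ t, t ∈ Set.range (bcT' sq (φ t)).left) (l l' : (yon S).obj sq.ptT' ⟶ X)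
    (key : ∀ t, (yon S).map (bcT' sq (φ t)) ≫ l = (yon S).map (bcT' sq (φ t)) ≫ l') : l = l' :=
  (existsUnique_glue_fppf _ (fun t => bcT' sq (φ t)) (fun t => (flat_lfp_bcT' sq (hφ t)).1)
    (fun t => (flat_lfp_bcT' sq (hφ t)).2) (fun t => ⟨t, ht t⟩) (fun t => (yon S).map (bcT' sq (φ t)) ≫ l)
    fun k k' Z a b w => by rw [← Functor.map_comp_assoc, w, Functor.map_comp_assoc]).unique
      (fun _ => rfl) fun t => (key t).symm

theorem isUnivFOThick_descend {Z Y Z' Y' X : Sp S} (hZ : IsAlgSpace Z) (hY : IsAlgSpace Y) (hZ' : IsAlgSpace Z')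
    (hY' : IsAlgSpace Y') {e : Z ⟶ Y} (he : IsEtaleMor e) (hes : IsSurjectiveMor e) {hYX : Y ⟶ X}
    {iZ : Z ⟶ Z'} {iY : Y ⟶ Y'} (hiY : IsFOThickMor iY) {f' : Z' ⟶ Y'} (hf' : IsEtaleMor f')
    (w : iZ ≫ f' = e ≫ iY) {hY'X : Y' ⟶ X} (w' : iY ≫ hY'X = hYX)
    (HU : IsUnivFOThick (e ≫ hYX) iZ (f' ≫ hY'X)) : IsUnivFOThick hYX iY hY'X := by
  have hF := etale_of_isEtaleMor hZ' hY' hf'
  obtain ⟨U, z, hz, hzs⟩ := hZ.atlas
  have hze : RepWith @Etale (z ≫ e) := he z hz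
  have hzes : RepWith @Surjective (z ≫ e) := (repWith_surjective_iff hze.1).2 fun y => by
    obtain ⟨x, rfl⟩ := hes y
    obtain ⟨x', rfl⟩ := surjective_map_of_repWith hzs x
    exact ⟨x', Points.map_comp _ _ _⟩
  have uniq : ∀ (sq : InfSq hY'X) (a : (yon S).obj sq.ptT ⟶ Y), sq.top = a ≫ iY → sq.HasUniq := by
    intro sq a ha l l' h₁ h₂ h₃ h₄
    have wa : a ≫ hYX = (yon S).map sq.j ≫ sq.bot := by
      rw [← sq.comm, ha, Category.assoc, w']
    have nb : ∀ t : ↥sq.ptT'.left, ∃ (Q : Type u) (_ : CommRing Q) (φ : sq.A →+* Q)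
        (u : (yon S).obj (bc sq φ).ptT ⟶ (yon S).obj U), φ.Etale ∧ Etale (bcT sq φ).left ∧
        t ∈ Set.range (bcT' sq φ).left ∧ u ≫ z ≫ e = (yon S).map (bcT sq φ) ≫ a :=
      exists_top_lift_nbhd (withMaps sq hYX a sq.bot wa) hze hzes
    choose Q iQ φ u hφ _ ht hu using nb
    refine flat_lfp_glue_unique sq Q φ hφ ht l l' fun t => ?_
    have hu' : u t ≫ z ≫ e = (yon S).map (bcT sq (φ t)) ≫ a := hu t
    have e₁ : ∀ m : (yon S).obj sq.ptT' ⟶ Y', (yon S).map sq.j ≫ m = sq.top →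
        ((u t ≫ z) ≫ iZ) ≫ f' = (yon S).map (bc sq (φ t)).j ≫ (yon S).map (bcT' sq (φ t)) ≫ m := by
      intro m hm
      rw [restrict_top sq (φ t) m, hm, ha, Category.assoc, Category.assoc, w, reassoc_of% hu']
    obtain ⟨m, hm₁, hm₂⟩ := (hF (withMaps (bc sq (φ t)) f' ((u t ≫ z) ≫ iZ) _ (e₁ l h₁))).exists
    obtain ⟨m', hm'₁, hm'₂⟩ := (hF (withMaps (bc sq (φ t)) f' ((u t ≫ z) ≫ iZ) _ (e₁ l' h₃))).exists
    have hm₂ : m ≫ f' = (yon S).map (bcT' sq (φ t)) ≫ l := hm₂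
    have hm'₂ : m' ≫ f' = (yon S).map (bcT' sq (φ t)) ≫ l' := hm'₂
    have e₂ : (yon S).map (bc sq (φ t)).j ≫ (bc sq (φ t)).bot = (u t ≫ z) ≫ e ≫ hYX := by
      refine (bc sq (φ t)).comm.symm.trans ?_
      change ((yon S).map (bcT sq (φ t)) ≫ sq.top) ≫ hY'X = _
      simp only [Category.assoc, ha, w', reassoc_of% hu']
    have e : m = m' := (HU.2.2 (IsAlgSpace.yon_obj _) (IsAlgSpace.yon_obj _) _ (u t ≫ z) (bc sq (φ t)).bot
      (isFOThickMor_j (bc sq (φ t))) e₂).unique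
        ⟨hm₁, ((reassoc_of% hm₂) hY'X).trans (congrArg ((yon S).map (bcT' sq (φ t)) ≫ ·) h₂)⟩
        ⟨hm'₁, ((reassoc_of% hm'₂) hY'X).trans (congrArg ((yon S).map (bcT' sq (φ t)) ≫ ·) h₄)⟩
    rw [← hm₂, ← hm'₂, e]
  have lift : ∀ (sq : InfSq hY'X) (a : (yon S).obj sq.ptT ⟶ Y), sq.top = a ≫ iY → sq.HasLift := by
    intro sq a ha
    have wa : a ≫ hYX = (yon S).map sq.j ≫ sq.bot := by
      rw [← sq.comm, ha, Category.assoc, w']
    have nb : ∀ t : ↥sq.ptT'.left, ∃ (Q : Type u) (_ : CommRing Q) (φ : sq.A →+* Q)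
        (u : (yon S).obj (bc sq φ).ptT ⟶ (yon S).obj U), φ.Etale ∧ Etale (bcT sq φ).left ∧
        t ∈ Set.range (bcT' sq φ).left ∧ u ≫ z ≫ e = (yon S).map (bcT sq φ) ≫ a :=
      exists_top_lift_nbhd (withMaps sq hYX a sq.bot wa) hze hzes
    choose Q iQ φ u hφ hφT ht hu' using nb
    have e₂ : ∀ t, (yon S).map (bc sq (φ t)).j ≫ (bc sq (φ t)).bot = (u t ≫ z) ≫ e ≫ hYX := fun t => by
      refine (bc sq (φ t)).comm.symm.trans ?_
      change ((yon S).map (bcT sq (φ t)) ≫ sq.top) ≫ hY'X = _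
      simp only [Category.assoc, ha, w', reassoc_of% (hu' t)]
    choose m hm using fun t => (HU.2.2 (IsAlgSpace.yon_obj _) (IsAlgSpace.yon_obj _) _ (u t ≫ z) (bc sq (φ t)).bot
      (isFOThickMor_j (bc sq (φ t))) (e₂ t)).exists
    refine exists_lift_of_local sq Q φ hφ hφT ht (fun t => m t ≫ f') (fun t => ?_)
      (fun t => (Category.assoc _ _ _).trans (hm t).2) fun {R} _ ψ => uniq (bc sq ψ) ((yon S).map (bcT sq ψ) ≫ a) ?_
    · change (yon S).map (bc sq (φ t)).j ≫ m t ≫ f' = (yon S).map (bcT sq (φ t)) ≫ sq.top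
      rw [reassoc_of% (hm t).1, ha]
      simp only [w, reassoc_of% (hu' t)]
    · change (yon S).map (bcT sq ψ) ≫ sq.top = _
      simp only [Category.assoc, ha]
  refine (isUnivFOThick_iff_affine hY hiY w').2 fun T T' j hT' hj a b wj => ?_
  obtain ⟨A, _, I, str, ε, ε₀, hI, hε⟩ := exists_ideal_of_thick j ((isThickMor_yon_map_iff j).1 hj.1)
    (AffLocT.yon_map hT' hj.2)
  let sq : InfSq hY'X := { A := A, I := I, sq_zero := hI, str := str
                           top := ((yon S).map ε₀.hom ≫ a) ≫ iY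
                           bot := (yon S).map ε.hom ≫ b
                           comm := by
                             rw [Category.assoc, Category.assoc, w', ← wj, ← Functor.map_comp_assoc, hε,
                               Functor.map_comp_assoc] }
  obtain ⟨l, hl₁, hl₂⟩ := lift sq ((yon S).map ε₀.hom ≫ a) rfl
  have hl₁ : (yon S).map sq.j ≫ l = ((yon S).map ε₀.hom ≫ a) ≫ iY := hl₁
  have hl₂ : l ≫ hY'X = (yon S).map ε.hom ≫ b := hl₂
  have hj' : (yon S).map j = (yon S).map ε₀.inv ≫ (yon S).map sq.j ≫ (yon S).map ε.hom := by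
    rw [← Functor.map_comp, ← Functor.map_comp, ← hε, Iso.inv_hom_id_assoc]
  refine ⟨(yon S).map ε.inv ≫ l, ⟨?_, ?_⟩, fun l' ⟨h₁, h₂⟩ => ?_⟩
  · rw [hj', Category.assoc, Category.assoc, ← Functor.map_comp_assoc (yon S) ε.hom ε.inv, Iso.hom_inv_id,
      CategoryTheory.Functor.map_id, Category.id_comp, hl₁, Category.assoc, ← Functor.map_comp_assoc,
      Iso.inv_hom_id, CategoryTheory.Functor.map_id, Category.id_comp]
  · rw [Category.assoc, hl₂, ← Functor.map_comp_assoc, Iso.inv_hom_id, CategoryTheory.Functor.map_id,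
      Category.id_comp]
  · rw [← cancel_epi ((yon S).map ε.hom), ← Functor.map_comp_assoc, Iso.hom_inv_id, CategoryTheory.Functor.map_id,
      Category.id_comp]
    refine uniq sq ((yon S).map ε₀.hom ≫ a) rfl _ _ ?_ ?_ hl₁ hl₂
    · rw [← cancel_epi ((yon S).map ε₀.inv), ← Category.assoc (yon S |>.map sq.j), ← Category.assoc, ← hj', h₁]
      change _ = (yon S).map ε₀.inv ≫ ((yon S).map ε₀.hom ≫ a) ≫ iY
      rw [Category.assoc, ← Functor.map_comp_assoc, Iso.inv_hom_id, CategoryTheory.Functor.map_id, Category.id_comp]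
    · change ((yon S).map ε.hom ≫ l') ≫ hY'X = (yon S).map ε.hom ≫ b
      rw [Category.assoc, h₂]

/-- Two lifts into `Z'` agreeing on a first order thickening which maps to `Z` are equal. -/
theorem eq_of_univ {Z Z' X : Sp S} {h : Z ⟶ X} {i : Z ⟶ Z'} {h' : Z' ⟶ X} (HU : IsUnivFOThick h i h')
    {A : Type u} [CommRing A] (str : Spec (CommRingCat.of A) ⟶ S) (J : Ideal A) (hJ : J ^ 2 = ⊥)
    (l l' : (yon S).obj (Over.mk str) ⟶ Z') (hh : l ≫ h' = l' ≫ h')
    (a : (yon S).obj (Over.mk (Spec.map (CommRingCat.ofHom (Ideal.Quotient.mk J)) ≫ str)) ⟶ Z)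
    (h₁ : (yon S).map (Over.homMk (Spec.map (CommRingCat.ofHom (Ideal.Quotient.mk J))) rfl :
      Over.mk (Spec.map (CommRingCat.ofHom (Ideal.Quotient.mk J)) ≫ str) ⟶ Over.mk str) ≫ l = a ≫ i)
    (h₂ : (yon S).map (Over.homMk (Spec.map (CommRingCat.ofHom (Ideal.Quotient.mk J))) rfl :
      Over.mk (Spec.map (CommRingCat.ofHom (Ideal.Quotient.mk J)) ≫ str) ⟶ Over.mk str) ≫ l' = a ≫ i) :
    l = l' := by
  let sq : InfSq h' := { A := A, I := J, sq_zero := hJ, str := str, top := a ≫ i, bot := l ≫ h'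
                         comm := by rw [← h₁, Category.assoc] }
  exact (HU.2.2 (IsAlgSpace.yon_obj _) (IsAlgSpace.yon_obj _) _ a (l ≫ h') (isFOThickMor_j sq)
    (sq.comm.symm.trans (by rw [← HU.2.1]; exact Category.assoc _ _ _))).unique ⟨h₁, rfl⟩ ⟨h₂, hh.symm⟩

/-- The closed immersion of the zero locus of an ideal in an affine scheme over `S`. -/
noncomputable abbrev quotPt {A : Type u} [CommRing A] (str : Spec (CommRingCat.of A) ⟶ S) (I : Ideal A) :
    Over.mk (Spec.map (CommRingCat.ofHom (Ideal.Quotient.mk I)) ≫ str) ⟶ Over.mk str :=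
  Over.homMk (Spec.map (CommRingCat.ofHom (Ideal.Quotient.mk I))) rfl

theorem quotPt_left {A : Type u} [CommRing A] (str : Spec (CommRingCat.of A) ⟶ S) (I : Ideal A) :
    (quotPt str I).left = Spec.map (CommRingCat.ofHom (Ideal.Quotient.mk I)) := rfl

/-- Two lifts of the same map through an etale chart agreeing modulo a square-zero ideal are equal. -/
theorem eq_of_etale {V : Over S} {Y : Sp S} {c : (yon S).obj V ⟶ Y} (hc : RepWith @Etale c) {R : Type u} [CommRing R]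
    (str : Spec (CommRingCat.of R) ⟶ S) (J : Ideal R) (hJ : J ^ 2 = ⊥) (y y' : Over.mk str ⟶ V)
    (hy : quotPt str J ≫ y = quotPt str J ≫ y') (hh : (yon S).map y ≫ c = (yon S).map y' ≫ c) : y = y' := by
  let sq : InfSq c := { A := R, I := J, sq_zero := hJ, str := str
                        top := (yon S).map (quotPt str J ≫ y)
                        bot := (yon S).map y ≫ c
                        comm := by rw [Functor.map_comp, Category.assoc] }
  exact (yon S).map_injective (unramified_of_etale (etale_of_repWith_etale hc) sq ((yon S).map y) ((yon S).map y')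
    ((yon S).map_comp _ _).symm rfl (by rw [← Functor.map_comp, ← hy]) hh.symm)

/-- Maps into an affine chart of a universal thickening agreeing modulo `J` are equal. -/
theorem eq_of_univ_quot {Z Z' X : Sp S} {h : Z ⟶ X} {i : Z ⟶ Z'} {h' : Z' ⟶ X} (HU : IsUnivFOThick h i h')
    {C : Type u} [CommRing C] (strC : Spec (CommRingCat.of C) ⟶ S) (K : Ideal C)
    (c : (yon S).obj (Over.mk strC) ⟶ Z')
    (q₀ : (yon S).obj (Over.mk (Spec.map (CommRingCat.ofHom (Ideal.Quotient.mk K)) ≫ strC)) ⟶ Z)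
    (hq₀ : (yon S).map (quotPt strC K) ≫ c = q₀ ≫ i)
    {R : Type u} [CommRing R] (str : Spec (CommRingCat.of R) ⟶ S) (J : Ideal R) (hJ : J ^ 2 = ⊥)
    (g g' : C →+* R) (y y' : Over.mk str ⟶ Over.mk strC) (hy : y.left = Spec.map (CommRingCat.ofHom g))
    (hy' : y'.left = Spec.map (CommRingCat.ofHom g')) (hK : K.map g ≤ J) (hd : ∀ z, g z - g' z ∈ J)
    (hh : (yon S).map y ≫ c ≫ h' = (yon S).map y' ≫ c ≫ h') : (yon S).map y ≫ c = (yon S).map y' ≫ c := by
  have hle : K ≤ J.comap g := Ideal.map_le_iff_le_comap.1 hK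
  have e₀ : (quotPt str J ≫ y).left = Spec.map (CommRingCat.ofHom (Ideal.quotientMap J g hle)) ≫
      Spec.map (CommRingCat.ofHom (Ideal.Quotient.mk K)) := by
    rw [Over.comp_left, quotPt_left, hy, ← Spec.map_comp, ← Spec.map_comp, ← CommRingCat.ofHom_comp,
      ← CommRingCat.ofHom_comp, Ideal.quotientMap_comp_mk]
  let q : Over.mk (Spec.map (CommRingCat.ofHom (Ideal.Quotient.mk J)) ≫ str) ⟶
      Over.mk (Spec.map (CommRingCat.ofHom (Ideal.Quotient.mk K)) ≫ strC) :=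
    Over.homMk (Spec.map (CommRingCat.ofHom (Ideal.quotientMap J g hle))) (by
      change Spec.map _ ≫ Spec.map _ ≫ strC = _
      rw [← Category.assoc, ← e₀]
      exact Over.w (quotPt str J ≫ y))
  have hq : quotPt str J ≫ y = q ≫ quotPt strC K := Over.OverMorphism.ext (by rw [e₀]; rfl)
  have hq' : quotPt str J ≫ y' = q ≫ quotPt strC K := by
    rw [← hq]
    apply Over.OverMorphism.ext
    rw [Over.comp_left, Over.comp_left, quotPt_left, hy, hy', ← Spec.map_comp, ← Spec.map_comp]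
    congr 1
    ext z
    exact (Ideal.Quotient.eq.2 (hd z)).symm
  have red : ∀ m : Over.mk str ⟶ Over.mk strC, quotPt str J ≫ m = q ≫ quotPt strC K →
      (yon S).map (quotPt str J) ≫ (yon S).map m ≫ c = ((yon S).map q ≫ q₀) ≫ i := fun m hm => by
    rw [← Functor.map_comp_assoc, hm, Functor.map_comp_assoc, hq₀, Category.assoc]
  exact eq_of_univ HU str J hJ _ _ (by simpa only [Category.assoc] using hh) _ (red _ hq) (red _ hq')

/-- Maps into an affine etale chart of a universal thickening agreeing modulo `I` have the same image. -/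
theorem eq_of_univ_chart {Z Z' X : Sp S} {h : Z ⟶ X} {i : Z ⟶ Z'} {h' : Z' ⟶ X} (HU : IsUnivFOThick h i h')
    {V : Over S} [IsAffine V.left] {c : (yon S).obj V ⟶ Z'} (hc : RepWith @Etale c) {A : Type u} [CommRing A]
    (str : Spec (CommRingCat.of A) ⟶ S) (I : Ideal A) (hI : I ^ 2 = ⊥) (x x' : Over.mk str ⟶ V)
    (hx : quotPt str I ≫ x = quotPt str I ≫ x')
    (hh : (yon S).map x ≫ c ≫ h' = (yon S).map x' ≫ c ≫ h') : (yon S).map x ≫ c = (yon S).map x' ≫ c := by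
  obtain ⟨Wc, fc, sc, sqc⟩ := exists_sq HU.1.1.1 c
  obtain ⟨C, _, K, strC, η, η₀, hK, hη⟩ := exists_ideal_of_thick sc (HU.1.1.2 _ _ _ sqc)
    (HU.1.2 c fc sc ‹_› hc sqc)
  obtain ⟨ψ, hψ⟩ := Spec.map_surjective (x ≫ η.inv).left
  obtain ⟨ψ', hψ'⟩ := Spec.map_surjective (x' ≫ η.inv).left
  obtain ⟨c', hc'⟩ : ∃ c' : (yon S).obj (Over.mk strC) ⟶ Z', c' = (yon S).map η.hom ≫ c := ⟨_, rfl⟩
  have hq₀ : (yon S).map (quotPt strC K) ≫ c' = ((yon S).map η₀.hom ≫ fc) ≫ i := by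
    rw [hc', Category.assoc, sqc.w, ← Functor.map_comp_assoc, ← Functor.map_comp_assoc, hη]
  have hmod : ∀ z, ψ.hom z - ψ'.hom z ∈ I := fun z => by
    have e := congrArg CommaMorphism.left (congrArg (· ≫ η.inv) hx)
    simp only [Category.assoc, Over.comp_left, quotPt_left] at e hψ hψ'
    rw [← hψ, ← hψ', ← Spec.map_comp, ← Spec.map_comp] at e
    exact Ideal.Quotient.eq.1 congr($(Spec.map_injective e).hom z)
  have back : ∀ {W' : Over S} (m : W' ⟶ V), (yon S).map (m ≫ η.inv) ≫ c' = (yon S).map m ≫ c := fun {W'} m => by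
    rw [hc', ← Functor.map_comp_assoc, Category.assoc, Iso.inv_hom_id, Category.comp_id]
  let N : Ideal A := K.map ψ.hom * I
  have hKsq : K.map ψ.hom * K.map ψ.hom = ⊥ := by rw [← Ideal.map_mul, ← pow_two, hK, Ideal.map_bot]
  have hJ₀ : ((K.map ψ.hom ⊔ I).map (Ideal.Quotient.mk N)) ^ 2 = ⊥ := by
    rw [← Ideal.map_pow, Ideal.map_eq_bot_iff_le_ker, Ideal.mk_ker, pow_two, Ideal.sup_mul, Ideal.mul_sup,
      Ideal.mul_sup, hKsq, ← pow_two I, hI, Ideal.mul_comm I (K.map ψ.hom)]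
    simp [N]
  let πN : Over.mk (Spec.map (CommRingCat.ofHom (Ideal.Quotient.mk N)) ≫ str) ⟶ Over.mk str := quotPt str N
  have step₁ := eq_of_univ_quot HU strC K c' _ hq₀ (Spec.map (CommRingCat.ofHom (Ideal.Quotient.mk N)) ≫ str)
    _ hJ₀ ((Ideal.Quotient.mk N).comp ψ.hom) ((Ideal.Quotient.mk N).comp ψ'.hom)
    (πN ≫ x ≫ η.inv) (πN ≫ x' ≫ η.inv)
    (by rw [Over.comp_left, ← hψ, quotPt_left, ← Spec.map_comp]; rfl)
    (by rw [Over.comp_left, ← hψ', quotPt_left, ← Spec.map_comp]; rfl)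
    (by rw [← Ideal.map_map]; exact Ideal.map_mono le_sup_left)
    (fun z => by
      rw [RingHom.comp_apply, RingHom.comp_apply, ← map_sub]
      exact Ideal.mem_map_of_mem _ (Ideal.mem_sup_right (hmod z)))
    (by
      rw [Functor.map_comp _ πN (x ≫ η.inv), Functor.map_comp _ πN (x' ≫ η.inv), Category.assoc, Category.assoc,
        reassoc_of% (back x), reassoc_of% (back x'), hh])
  have hsqI : (I.map (Ideal.Quotient.mk N)) ^ 2 = ⊥ := by rw [← Ideal.map_pow, hI, Ideal.map_bot]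
  have hN : πN ≫ x = πN ≫ x' := by
    refine eq_of_etale hc _ _ hsqI _ _ ?_ ?_
    · let r : Over.mk (Spec.map (CommRingCat.ofHom (Ideal.Quotient.mk (I.map (Ideal.Quotient.mk N)))) ≫
          Spec.map (CommRingCat.ofHom (Ideal.Quotient.mk N)) ≫ str) ⟶
          Over.mk (Spec.map (CommRingCat.ofHom (Ideal.Quotient.mk I)) ≫ str) :=
        Over.homMk (Spec.map (CommRingCat.ofHom (Ideal.quotientMap _ (Ideal.Quotient.mk N) Ideal.le_comap_map))) (by
          simp only [Over.mk_hom, ← Spec.map_comp_assoc, ← CommRingCat.ofHom_comp, Ideal.quotientMap_comp_mk])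
      have hr : quotPt (Spec.map (CommRingCat.ofHom (Ideal.Quotient.mk N)) ≫ str) (I.map (Ideal.Quotient.mk N)) ≫
          πN = r ≫ quotPt str I := Over.OverMorphism.ext (by
        simp only [Over.comp_left, Over.homMk_left, r, πN, ← Spec.map_comp, ← CommRingCat.ofHom_comp,
          Ideal.quotientMap_comp_mk])
      rw [reassoc_of% hr, reassoc_of% hr, hx]
    · rw [← back (πN ≫ x), ← back (πN ≫ x'), Category.assoc πN, Category.assoc πN]
      exact step₁
  have hmod₂ : ∀ z, ψ.hom z - ψ'.hom z ∈ K.map ψ.hom := fun z => by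
    have e := congrArg CommaMorphism.left (congrArg (· ≫ η.inv) hN)
    simp only [Category.assoc, Over.comp_left, quotPt_left, πN] at e hψ hψ'
    rw [← hψ, ← hψ', ← Spec.map_comp, ← Spec.map_comp] at e
    have hz : ψ.hom z - ψ'.hom z ∈ K.map ψ.hom * I :=
      (Ideal.Quotient.eq (I := N)).1 congr($(Spec.map_injective e).hom z)
    exact Ideal.mul_le_left hz
  rw [← back x, ← back x']
  exact eq_of_univ_quot HU strC K c' _ hq₀ str _ (by rw [pow_two]; exact hKsq) ψ.hom ψ'.hom (x ≫ η.inv) (x' ≫ η.inv)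
    hψ.symm hψ'.symm le_rfl hmod₂ (by rw [reassoc_of% (back x), reassoc_of% (back x')]; exact hh)

theorem unramified_of_isUnivFOThick {Z Z' X : Sp S} (hZ' : IsAlgSpace Z') {h : Z ⟶ X} {i : Z ⟶ Z'} {h' : Z' ⟶ X}
    (HU : IsUnivFOThick h i h') : IsFormallyUnramifiedMor h' := by
  intro sq l l' h₁ h₂ h₃ h₄
  obtain ⟨U, p, hp, hps⟩ := hZ'.atlas
  obtain ⟨W, fst, snd, sqW⟩ := exists_sq hp.1 l
  have : Etale snd.left := hp.2 _ _ _ sqW
  have : Surjective snd.left := hps.2 _ _ _ sqW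
  have nbhd : ∀ t : ↥sq.ptT'.left, ∃ (Q : Type u) (_ : CommRing Q) (φ : sq.A →+* Q) (O : U.left.Opens)
      (x : (bc sq φ).ptT' ⟶ openSub U O), IsAffineOpen O ∧ φ.Etale ∧ t ∈ Set.range (bcT' sq φ).left ∧
        (yon S).map x ≫ (yon S).map (openSubι U O) ≫ p = (yon S).map (bcT' sq φ) ≫ l := by
    intro t
    obtain ⟨w, rfl⟩ := snd.left.surjective t
    obtain ⟨O, hO, hwO, -⟩ :=
      exists_isAffineOpen_mem_and_subset (show (pre fst).left w ∈ (⊤ : U.left.Opens) from trivial)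
    let B := (pre fst).left ⁻¹ᵁ O
    obtain ⟨w', hw'⟩ := (range_openSubι W B).ge (show w ∈ B from hwO)
    obtain ⟨x₀, hx₀⟩ := exists_openSub_lift O (openSubι W B ≫ pre fst) fun v => (range_openSubι W B).le ⟨v, rfl⟩
    have : Etale (openSubι W B ≫ snd).left := inferInstanceAs (Etale (B.ι ≫ snd.left))
    obtain ⟨Q, _, φ, ε, hφ, hε, v, hv⟩ := exists_etale_chart (R := sq.A) (str := sq.str) (openSubι W B ≫ snd) w'
    refine ⟨Q, inferInstance, φ, O, ε ≫ x₀, hO, hφ, ⟨v, ?_⟩, ?_⟩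
    · rw [← hw', ← hv]
      exact (congrArg (fun c : _ ⟶ Over.mk sq.str => c.left v) hε).symm
    · have e : (ε ≫ x₀) ≫ openSubι U O = ε ≫ openSubι W B ≫ pre fst := by rw [Category.assoc, hx₀]
      rw [← Functor.map_comp_assoc, e]
      simp only [Functor.map_comp, map_pre, Category.assoc, sqW.w]
      rw [← Functor.map_comp_assoc, ← Functor.map_comp_assoc, Category.assoc, hε]
      rfl
  choose Q iQ φ O x hO hφ ht hx using nbhd
  refine flat_lfp_glue_unique sq Q φ hφ ht l l' fun t => ?_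
  have : IsAffine (openSub U (O t)).left := hO t
  let c := (yon S).map (openSubι U (O t)) ≫ p
  have hc : RepWith @Etale c := repWith_comp ((repWith_yon_map_iff _ _).2 (inferInstanceAs (Etale (O t).ι))) hp
  let P := bc sq (φ t)
  have hl : (yon S).map P.j ≫ (yon S).map (bcT' sq (φ t)) ≫ l = (yon S).map P.j ≫ (yon S).map (bcT' sq (φ t)) ≫ l' :=
    (restrict_top sq (φ t) l).trans
      ((congrArg ((yon S).map (bcT sq (φ t)) ≫ ·) (h₁.trans h₃.symm)).trans (restrict_top sq (φ t) l').symm)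
  obtain ⟨x', hx'₁, hx'₂⟩ := (etale_of_repWith_etale hc (withMaps P c ((yon S).map P.j ≫ (yon S).map (x t))
    ((yon S).map (bcT' sq (φ t)) ≫ l') (by
      rw [Category.assoc]
      exact (congrArg ((yon S).map P.j ≫ ·) (hx t)).trans hl))).exists
  obtain ⟨x', rfl⟩ := (yon S).map_surjective x'
  have hx'₂ : (yon S).map x' ≫ c = (yon S).map (bcT' sq (φ t)) ≫ l' := hx'₂
  have hx'₁ : P.j ≫ x' = P.j ≫ x t :=
    (yon S).map_injective (((yon S).map_comp _ _).trans (hx'₁.trans ((yon S).map_comp _ _).symm))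
  rw [← hx'₂]
  refine (hx t).symm.trans (eq_of_univ_chart HU hc P.str P.I P.sq_zero (x t) x' hx'₁.symm ?_)
  exact (Category.assoc _ _ _).symm.trans ((congrArg (· ≫ h') (hx t)).trans ((Category.assoc _ _ _).trans
    ((congrArg ((yon S).map (bcT' sq (φ t)) ≫ ·) (h₂.trans h₄.symm)).trans ((Category.assoc _ _ _).symm.trans
      ((congrArg (· ≫ h') hx'₂.symm).trans (Category.assoc _ _ _))))))

end Groth.Agent.AlgSpFormal
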