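import Groth.Agent.AlgSpFormal.Charts
import Groth.Agent.AlgSpFormal.Mono
import Groth.Agent.AlgSpLoc.Diag
import Groth.Agent.AlgSpLoc.FlatLocusSp

/-!
Unramified morphisms of algebraic spaces and their diagonals.
-/

set_option autoImplicit false
set_option backward.isDefEq.respectTransparency false

universe u

open CategoryTheory CategoryTheory.Limits AlgebraicGeometry

namespace Groth.Agent.AlgSpFormal

open _root_.AlgSp Groth.Agent.AlgSpc Groth.Agent.AlgSpLoc

variable {S : Scheme.{u}} {X Y : Sp S} {f : X ⟶ Y}

theorem etale_diagonal (hf : IsFormallyUnramifiedMor f) : IsFormallyEtaleMor (pullback.diagonal f) := by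
  intro sq
  have h1 := congrArg (· ≫ pullback.fst f f) sq.comm
  have h2 := congrArg (· ≫ pullback.snd f f) sq.comm
  simp only [Category.assoc, pullback.diagonal_fst, pullback.diagonal_snd, Category.comp_id] at h1 h2
  let sq' : InfSq f := { sq with bot := sq.bot ≫ pullback.fst f f ≫ f, comm := by rw [reassoc_of% h1] }
  have he : sq.bot ≫ pullback.fst f f = sq.bot ≫ pullback.snd f f :=
    hf sq' _ _ h1.symm (by simp [sq']) h2.symm (by simp [sq', pullback.condition])
  refine ⟨sq.bot ≫ pullback.fst f f, ⟨h1.symm, ?_⟩, fun m hm => ?_⟩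
  · apply pullback.hom_ext <;> simp [he]
  · simp [← hm.2]

theorem unramified_of_diagonal (hd : IsFormallyEtaleMor (pullback.diagonal f)) : IsFormallyUnramifiedMor f := by
  intro sq l l' h₁ h₂ h₃ h₄
  let ξ : (yon S).obj sq.ptT' ⟶ pullback f f := pullback.lift l l' (h₂.trans h₄.symm)
  let sq' : InfSq (pullback.diagonal f) := { sq with
    bot := ξ
    comm := by
      apply pullback.hom_ext <;>
        simp only [Category.assoc, pullback.diagonal_fst, pullback.diagonal_snd, Category.comp_id, ξ,
          pullback.lift_fst, pullback.lift_snd]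
      exacts [h₁.symm, h₃.symm] }
  obtain ⟨m, ⟨-, hm : m ≫ pullback.diagonal f = ξ⟩, -⟩ := hd sq'
  have e1 := congrArg (· ≫ pullback.fst f f) hm
  have e2 := congrArg (· ≫ pullback.snd f f) hm
  simp only [Category.assoc, pullback.diagonal_fst, pullback.diagonal_snd, Category.comp_id, ξ, pullback.lift_fst,
    pullback.lift_snd] at e1 e2
  exact e1.symm.trans e2

theorem openImm_diagonal (hX : IsAlgSpace X) (hY : IsAlgSpace Y)
    (hft : LocP @LocallyOfFiniteType f) (hf : IsFormallyUnramifiedMor f) :
    RepWith @IsOpenImmersion (pullback.diagonal f) := by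
  have sq := IsPullback.of_hasPullback f f
  have hP := isAlgSpace_of_isPullback hX hY hX sq
  have hfst : LocP @LocallyOfFiniteType (pullback.fst f f) := locP_base_change hX hY hX sq.flip hft
  have hlfp : LocP @LocallyOfFinitePresentation (pullback.diagonal f) :=
    locP_of_comp (P := @LocallyOfFinitePresentation) (Q := @LocallyOfFiniteType)
      (fun h k (hk : LocallyOfFinitePresentation (h ≫ k)) (hk' : LocallyOfFiniteType k) =>
        FlatLocus.locallyOfFinitePresentation_of_comp h k)
      hX hP hX (by
        rw [pullback.diagonal_fst]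
        exact locP_of_repWith (fun e k (_ : Etale e) (_ : LocallyOfFinitePresentation k) => (inferInstance : LocallyOfFinitePresentation (e ≫ k))) (repWith_iso (P := @LocallyOfFinitePresentation) (𝟙 X))) hfst
  have het : LocP @Etale (pullback.diagonal f) := (locP_etale_iff hX hP).2 ⟨hlfp, etale_diagonal hf⟩
  have hr := repWith_of_locP hX hP (representable_diagonal_mor hX f) het
  refine ⟨hr.1, fun T W ξ fst snd s => ?_⟩
  haveI : Etale snd.left := hr.2 ξ fst snd s
  haveI : Mono ((yon S).map snd) := IsPullback.mono_snd_of_mono s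
  haveI : Mono snd := (yon S).mono_of_mono_map this
  haveI : Mono snd.left := inferInstanceAs (Mono ((Over.forget S).map snd))
  exact IsOpenImmersion.of_flat_of_mono snd.left

theorem diagonal_iff (hX : IsAlgSpace X) (hY : IsAlgSpace Y) :
    (LocP (@LocallyOfFiniteType ⊓ @FormallyUnramified) f → RepWith @IsOpenImmersion (pullback.diagonal f)) ∧
    (LocP @LocallyOfFiniteType f → RepWith @IsOpenImmersion (pullback.diagonal f) →
      LocP (@LocallyOfFiniteType ⊓ @FormallyUnramified) f) := by
  refine ⟨fun h => openImm_diagonal hX hY (locP_inf.1 h).1 ((unramified_iff_locP hX hY).2 (locP_inf.1 h).2),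
    fun hft hd => locP_inf.2 ⟨hft, (unramified_iff_locP hX hY).1 (unramified_of_diagonal
      (etale_of_repWith_etale (repWith_mono (fun _ _ e (_ : IsOpenImmersion e) => (inferInstance : Etale e)) hd)))⟩⟩

end Groth.Agent.AlgSpFormal
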